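import Cfsg.Agent.Lib.HeldType.Amalgam.Core

/-!
# Passing between the two conventions for words
-/

set_option autoImplicit false

namespace Cfsg.Lib.HeldType.Amalgam

open Cfsg.Lib.CosetEnum

variable {H : Type*} [Group H]

/-- The eight letters of a map, the others being sent to the identity. -/
def cut (g : ℕ → H) (i : ℕ) : H := if i < 8 then g i else 1

theorem image_cut (g : ℕ → H) : cut g '' {i | i < 8} = g '' {i | i < 8} :=
  Set.image_congr fun _ hi => if_pos hi

/-- Letters squaring to one. -/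
theorem cut_sq {g : ℕ → H} {rels : List (List ℕ)} (hrel : ∀ r ∈ rels, wv g r = 1)
    (hsq : ((List.range 8).all fun i => rels.contains [i, i]) = true) (i : ℕ) :
    cut g i * cut g i = 1 := by
  unfold cut
  split
  · next h =>
    have h1 := List.mem_of_elem_eq_true (List.all_eq_true.1 hsq i (List.mem_range.2 h))
    simpa [wv] using hrel _ h1
  · exact one_mul 1

theorem wv_cut (g : ℕ → H) : ∀ w : List ℕ, (∀ i ∈ w, i < 8) → wv (cut g) w = wv g w
  | [], _ => rfl
  | i :: w, h => by
    have ih := wv_cut g w fun a ha => h a (List.mem_cons_of_mem _ ha)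
    simp only [wv, List.map_cons, List.prod_cons] at ih ⊢
    rw [ih]
    congr 1
    exact if_pos (h i List.mem_cons_self)

theorem wordVal_eq_inv {x : ℕ → H} (hx : ∀ i, x i * x i = 1) : ∀ w : List ℕ, (∀ i ∈ w, i < eps) →
    wordVal x w = (wv x w)⁻¹
  | [], _ => by simp [wordVal, wv]
  | i :: w, h => by
    rw [wordVal, wordVal_eq_inv hx w fun a ha => h a (List.mem_cons_of_mem _ ha), gen,
      if_neg (Nat.ne_of_lt (h i List.mem_cons_self))]
    simp only [wv, List.map_cons, List.prod_cons, mul_inv_rev]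
    rw [inv_eq_of_mul_eq_one_left (hx i)]

/-- The relators hold in the other convention. -/
theorem wordVal_cut {g : ℕ → H} (hsq : ∀ i, cut g i * cut g i = 1) {rels : List (List ℕ)}
    (hlt : (rels.all fun r => r.all fun i => Nat.blt i 8) = true) (hrel : ∀ r ∈ rels, wv g r = 1) :
    ∀ r ∈ rels, wordVal (cut g) r = 1 := by
  intro r hr
  have h : ∀ i ∈ r, i < 8 := fun i hi => by
    have := List.all_eq_true.1 (List.all_eq_true.1 hlt r hr) i hi
    simpa [Nat.blt_eq] using this
  rw [wordVal_eq_inv hsq r fun i hi => lt_trans (h i hi) (by decide), wv_cut g r h, hrel r hr, inv_one]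

/-- The two conventions give the same subgroups. -/
theorem closure_cut {g : ℕ → H} (hsq : ∀ i, cut g i * cut g i = 1) {U : List (List ℕ)}
    (hlt : (U.all fun r => r.all fun i => Nat.blt i 8) = true) :
    Subgroup.closure (wordVal (cut g) '' {u | u ∈ U}) = Subgroup.closure {x | ∃ w ∈ U, wv g w = x} := by
  have h : ∀ r ∈ U, ∀ i ∈ r, i < 8 := fun r hr i hi => by
    have := List.all_eq_true.1 (List.all_eq_true.1 hlt r hr) i hi
    simpa [Nat.blt_eq] using this
  have e : wordVal (cut g) '' {u | u ∈ U} = {x | ∃ w ∈ U, wv g w = x}⁻¹ := by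
    ext x
    constructor
    · rintro ⟨u, hu, rfl⟩
      refine ⟨u, hu, ?_⟩
      rw [wordVal_eq_inv hsq u fun i hi => lt_trans (h u hu i hi) (by decide), wv_cut g u (h u hu),
        inv_inv]
    · rintro ⟨u, hu, hux⟩
      refine ⟨u, hu, ?_⟩
      rw [wordVal_eq_inv hsq u fun i hi => lt_trans (h u hu i hi) (by decide), wv_cut g u (h u hu),
        hux, inv_inv]
  rw [e, Subgroup.closure_inv]

/-- A homomorphism carries values of words. -/
theorem map_wv {K : Type*} [Group K] (φ : H →* K) (x : ℕ → H) (w : List ℕ) :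
    φ (wv x w) = wv (fun i => φ (x i)) w := by
  simp [wv, map_list_prod, List.map_map, Function.comp_def]

/-- The conclusion for one option with a model. -/
theorem iso_of_option [Finite H] {Q : Type*} [Group Q] [IsSimpleGroup Q] {g : ℕ → H}
    {c : StepCert} {R0 : List (List ℕ)} (hv : c.Valid R0) (hS : c.S = List.range 8)
    (hR0 : (R0.all fun r => r.all fun i => Nat.blt i 8) = true)
    (hU : (c.U.all fun r => r.all fun i => Nat.blt i 8) = true)
    (hrel : ∀ r ∈ R0, wv g r = 1) (hsq : ((List.range 8).all fun i => R0.contains [i, i]) = true)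
    (hgen : Subgroup.closure (g '' Set.Iio 8) = ⊤)
    (hbig : Subgroup.closure {x | ∃ w ∈ c.U, wv g w = x} ≠ ⊤)
    (hC : ∀ N : Subgroup H, N.Normal → ∀ k ∈ N, k * wv g zWord = wv g zWord * k → k ≠ 1 → wv g zWord ∈ N)
    {y : ℕ → Q} (hy : ∀ i, y i * y i = 1) (hgeny : Subgroup.closure (y '' {i | i < 8}) = ⊤)
    (hrely : ∀ r ∈ R0, wordVal y r = 1) {α : Type*} [MulAction Q α] (a₀ : α)
    (hfix : ∀ u ∈ c.U, wordVal y u • a₀ = a₀) (horb : c.n ≤ (MulAction.orbit Q a₀).ncard)
    (hz2 : wv g zWord * wv g zWord = 1) (hz : wv y zWord ≠ 1) (hzc : ∃ q : Q, wv y zWord * q ≠ q * wv y zWord) :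
    Nonempty (H ≃* Q) := by
  have hx := cut_sq hrel hsq
  obtain ⟨φ, hφ, hφg⟩ := exists_hom hv hS hx hy
    (by rw [image_cut]; exact hgen) hgeny (wordVal_cut hx hR0 hrel) hrely a₀ hfix horb
    (by rw [closure_cut hx hU]; exact hbig)
  have hzw : ∀ i ∈ zWord, i < 8 := by decide
  have hφz : φ (wv g zWord) = wv y zWord := by
    rw [map_wv]
    simp only [wv]
    refine congrArg List.prod (List.map_congr_left fun i hi => ?_)
    have := hφg i (hzw i hi)
    rwa [show cut g i = g i from if_pos (hzw i hi)] at this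
  exact ⟨MulEquiv.ofBijective φ ⟨injective_of_centralizer φ hφ hz2 (hφz ▸ hz) (hφz ▸ hzc) hC, hφ⟩⟩

end Cfsg.Lib.HeldType.Amalgam
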