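import Mathlib

/-!
# Amalgam data in Held's configuration

Eight involutory letters: `0`-`5` generate the centraliser of an involution, `6` and `7` lie in the
two normalisers of elementary abelian subgroups of order 64. Words are lists of letters.
-/

set_option autoImplicit false

namespace Cfsg.Lib.HeldType.Amalgam

/-- The value of a word in involutory letters. -/
def wv {G : Type*} [Group G] (g : ℕ → G) (w : List ℕ) : G := (w.map g).prod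

/-- The codes of the letters in the centraliser. -/
def codes : List ℕ := [51399, 44193, 35066, 34998, 35204, 20719]

/-- A word for the central involution. -/
def zWord : List ℕ := [2, 3, 2, 3]

/-- Relators of the amalgam, case L5. -/
def relsL5 : List (List ℕ) := [
    [0, 0],
    [1, 1],
    [2, 2],
    [3, 3],
    [4, 4],
    [5, 5],
    [6, 6],
    [7, 7],
    [2, 3, 1, 2, 3, 1],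
    [3, 0, 5, 2, 5, 0],
    [3, 4, 3, 2, 4, 2],
    [5, 0, 5, 0, 5, 0],
    [7, 2, 7, 2, 7, 2],
    [7, 3, 7, 3, 7, 3],
    [1, 0, 1, 0, 1, 0, 1, 0],
    [2, 0, 2, 0, 2, 0, 2, 0],
    [2, 0, 3, 0, 2, 0, 3, 0],
    [2, 1, 2, 1, 2, 1, 2, 1],
    [2, 1, 4, 1, 2, 1, 4, 1],
    [2, 3, 4, 0, 4, 2, 3, 0],
    [2, 3, 5, 1, 2, 3, 5, 1],
    [2, 4, 3, 0, 3, 4, 2, 0],
    [2, 5, 2, 1, 3, 5, 3, 1],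
    [3, 0, 3, 0, 3, 0, 3, 0],
    [3, 1, 5, 1, 3, 2, 5, 2],
    [4, 1, 4, 3, 4, 1, 4, 3],
    [4, 2, 4, 2, 4, 2, 4, 2],
    [4, 5, 4, 2, 4, 5, 4, 2],
    [5, 4, 5, 4, 5, 4, 5, 4],
    [1, 3, 0, 3, 6, 1, 6, 0],
    [4, 6, 4, 0, 4, 6, 4, 0],
    [6, 0, 6, 0, 6, 0, 6, 0],
    [6, 0, 6, 3, 6, 0, 6, 3],
    [6, 4, 6, 4, 6, 4, 6, 4],
    [3, 1, 3, 1, 3, 1, 3, 1],
    [5, 2, 7, 2, 5, 2, 7, 2],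
    [7, 1, 7, 1, 7, 1, 7, 1],
    [7, 5, 7, 5, 7, 5, 7, 5],
    [0, 1, 2, 1, 4, 3, 0, 4, 2],
    [1, 2, 4, 1, 4, 1, 2, 4, 3],
    [0, 1, 4, 0, 4, 6, 1, 0, 6],
    [1, 2, 1, 2, 6, 3, 1, 3, 6],
    [1, 2, 6, 1, 2, 6, 1, 2, 6],
    [0, 1, 2, 1, 7, 5, 7, 0, 3],
    [1, 2, 3, 7, 2, 5, 1, 3, 7],
    [1, 3, 7, 1, 3, 7, 1, 3, 7],
    [1, 0, 2, 0, 5, 1, 5, 0, 2, 0],
    [2, 0, 5, 4, 5, 3, 5, 4, 5, 0],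
    [4, 0, 6, 0, 6, 4, 6, 0, 6, 0],
    [1, 0, 1, 3, 2, 7, 1, 5, 7, 0],
    [0, 1, 0, 2, 5, 0, 1, 3, 0, 1, 5],
    [0, 1, 2, 0, 1, 4, 1, 2, 0, 1, 4],
    [0, 2, 4, 2, 5, 4, 0, 5, 4, 0, 5],
    [2, 3, 6, 0, 4, 6, 2, 3, 6, 4, 6, 0],
    [7, 0, 7, 0, 7, 1, 7, 0, 7, 0, 7, 1],
    [1, 2, 7, 2, 0, 5, 7, 0, 2, 5, 0, 7, 1, 0]]

/-- The possible relators joining the normalisers, case L5. -/
def sharedL5 : List (List ℕ) := [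
    [1, 6, 2, 5, 3, 0, 7, 1, 0, 5],
    [1, 6, 2, 1, 5, 0, 2, 7, 0, 5, 0],
    [1, 6, 2, 5, 3, 0, 7, 0, 3, 5, 2],
    [1, 6, 2, 0, 7, 2, 5, 0, 1, 7, 3]]

/-- Generators of the subgroup on whose cosets case L5 is enumerated. -/
def subL5 : List (List ℕ) := [
    [0],
    [1],
    [2],
    [3],
    [5],
    [7]]

/-- Relators of the amalgam, case M24. -/
def relsM24 : List (List ℕ) := [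
    [0, 0],
    [1, 1],
    [2, 2],
    [3, 3],
    [4, 4],
    [5, 5],
    [6, 6],
    [7, 7],
    [2, 3, 1, 2, 3, 1],
    [3, 0, 5, 2, 5, 0],
    [3, 4, 3, 2, 4, 2],
    [5, 0, 5, 0, 5, 0],
    [7, 3, 7, 3, 7, 3],
    [0, 3, 0, 3, 7, 1, 7],
    [1, 0, 1, 0, 1, 0, 1, 0],
    [2, 0, 2, 0, 2, 0, 2, 0],
    [2, 0, 3, 0, 2, 0, 3, 0],
    [2, 1, 2, 1, 2, 1, 2, 1],
    [2, 1, 4, 1, 2, 1, 4, 1],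
    [2, 3, 4, 0, 4, 2, 3, 0],
    [2, 3, 5, 1, 2, 3, 5, 1],
    [2, 4, 3, 0, 3, 4, 2, 0],
    [2, 5, 2, 1, 3, 5, 3, 1],
    [3, 0, 3, 0, 3, 0, 3, 0],
    [3, 1, 5, 1, 3, 2, 5, 2],
    [4, 1, 4, 3, 4, 1, 4, 3],
    [4, 2, 4, 2, 4, 2, 4, 2],
    [4, 5, 4, 2, 4, 5, 4, 2],
    [5, 4, 5, 4, 5, 4, 5, 4],
    [1, 4, 1, 6, 3, 0, 6, 0],
    [6, 0, 6, 0, 6, 0, 6, 0],
    [6, 0, 6, 1, 6, 0, 6, 1],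
    [3, 1, 3, 1, 3, 1, 3, 1],
    [0, 1, 2, 1, 4, 3, 0, 4, 2],
    [1, 2, 4, 1, 4, 1, 2, 4, 3],
    [0, 1, 0, 1, 7, 2, 1, 2, 7],
    [1, 0, 2, 0, 5, 1, 5, 0, 2, 0],
    [2, 0, 5, 4, 5, 3, 5, 4, 5, 0],
    [1, 3, 0, 3, 4, 6, 3, 6, 4, 0],
    [1, 3, 6, 4, 0, 4, 6, 3, 1, 0],
    [2, 6, 1, 6, 2, 0, 6, 4, 6, 0],
    [4, 6, 4, 6, 4, 0, 6, 4, 6, 0],
    [1, 2, 1, 2, 3, 0, 1, 3, 1, 0],
    [0, 1, 0, 2, 5, 0, 1, 3, 0, 1, 5],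
    [0, 1, 2, 0, 1, 4, 1, 2, 0, 1, 4],
    [0, 2, 4, 2, 5, 4, 0, 5, 4, 0, 5],
    [0, 1, 0, 1, 2, 6, 0, 6, 3, 2, 3],
    [0, 3, 2, 4, 6, 2, 1, 6, 1, 2, 6],
    [0, 1, 0, 2, 1, 7, 5, 1, 5, 7, 2],
    [0, 1, 2, 1, 0, 3, 7, 0, 5, 0, 7],
    [1, 2, 7, 5, 7, 2, 7, 5, 3, 2, 7],
    [2, 0, 7, 0, 2, 7, 5, 7, 5, 1, 7, 1]]

/-- The possible relators joining the normalisers, case M24. -/
def sharedM24 : List (List ℕ) := [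
    [2, 4, 6, 4, 3, 5, 7, 5, 3, 2, 1, 0],
    [2, 4, 6, 4, 5, 7, 5, 7, 2, 7, 1, 0],
    [2, 4, 6, 4, 3, 5, 7, 3, 5, 1, 3, 0],
    [2, 4, 6, 4, 5, 2, 7, 3, 5, 1, 0, 3]]

/-- Generators of the subgroup on whose cosets case M24 is enumerated. -/
def subM24 : List (List ℕ) := [
    [0],
    [1],
    [2],
    [3],
    [5],
    [7]]

/-- Relators of the amalgam, case He. -/
def relsHe : List (List ℕ) := [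
    [0, 0],
    [1, 1],
    [2, 2],
    [3, 3],
    [4, 4],
    [5, 5],
    [6, 6],
    [7, 7],
    [2, 3, 1, 2, 3, 1],
    [3, 0, 5, 2, 5, 0],
    [3, 4, 3, 2, 4, 2],
    [5, 0, 5, 0, 5, 0],
    [7, 0, 7, 0, 7, 0],
    [1, 0, 1, 0, 1, 0, 1, 0],
    [2, 0, 2, 0, 2, 0, 2, 0],
    [2, 0, 3, 0, 2, 0, 3, 0],
    [2, 1, 2, 1, 2, 1, 2, 1],
    [2, 1, 4, 1, 2, 1, 4, 1],
    [2, 3, 4, 0, 4, 2, 3, 0],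
    [2, 3, 5, 1, 2, 3, 5, 1],
    [2, 4, 3, 0, 3, 4, 2, 0],
    [2, 5, 2, 1, 3, 5, 3, 1],
    [3, 0, 3, 0, 3, 0, 3, 0],
    [3, 1, 5, 1, 3, 2, 5, 2],
    [4, 1, 4, 3, 4, 1, 4, 3],
    [4, 2, 4, 2, 4, 2, 4, 2],
    [4, 5, 4, 2, 4, 5, 4, 2],
    [5, 4, 5, 4, 5, 4, 5, 4],
    [6, 0, 6, 0, 6, 0, 6, 0],
    [6, 0, 6, 4, 6, 0, 6, 4],
    [6, 4, 6, 4, 6, 4, 6, 4],
    [3, 1, 3, 1, 3, 1, 3, 1],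
    [3, 7, 3, 1, 3, 7, 3, 1],
    [7, 1, 7, 1, 7, 1, 7, 1],
    [7, 2, 7, 2, 7, 2, 7, 2],
    [0, 1, 2, 1, 4, 3, 0, 4, 2],
    [1, 2, 4, 1, 4, 1, 2, 4, 3],
    [0, 1, 0, 1, 6, 3, 0, 3, 6],
    [0, 2, 3, 0, 2, 6, 0, 6, 3],
    [0, 4, 6, 2, 3, 2, 3, 6, 4],
    [0, 1, 3, 0, 1, 3, 7, 1, 7],
    [0, 1, 7, 1, 7, 0, 2, 1, 2],
    [1, 0, 2, 0, 5, 1, 5, 0, 2, 0],
    [2, 0, 5, 4, 5, 3, 5, 4, 5, 0],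
    [1, 2, 6, 3, 6, 1, 0, 4, 6, 0],
    [3, 6, 2, 6, 2, 6, 3, 1, 6, 1],
    [1, 0, 2, 5, 7, 1, 7, 3, 5, 0],
    [2, 1, 2, 5, 7, 5, 7, 5, 7, 1],
    [5, 2, 7, 2, 5, 3, 5, 7, 5, 3],
    [0, 1, 0, 2, 5, 0, 1, 3, 0, 1, 5],
    [0, 1, 2, 0, 1, 4, 1, 2, 0, 1, 4],
    [0, 2, 4, 2, 5, 4, 0, 5, 4, 0, 5],
    [0, 1, 0, 1, 5, 7, 5, 1, 5, 7, 5],
    [1, 2, 5, 1, 7, 3, 2, 7, 5, 2, 7],
    [2, 4, 6, 1, 6, 4, 1, 2, 6, 4, 2, 1],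
    [3, 7, 0, 3, 7, 0, 3, 7, 0, 3, 7, 0],
    [5, 7, 0, 5, 7, 3, 5, 7, 0, 5, 7, 3]]

/-- The possible relators joining the normalisers, case He. -/
def sharedHe : List (List ℕ) := [
    [4, 6, 2, 6, 4, 2, 0, 7, 2, 7, 0, 2, 1, 7],
    [4, 6, 2, 6, 4, 2, 0, 7, 2, 7, 1, 0, 1, 2, 7],
    [4, 6, 2, 6, 4, 2, 0, 3, 7, 2, 3, 0, 7, 3, 5, 0],
    [4, 6, 2, 6, 4, 2, 0, 5, 7, 3, 0, 2, 7, 2, 3, 1]]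

/-- Generators of the subgroup on whose cosets case He is enumerated. -/
def subHe : List (List ℕ) := [
    [0],
    [1],
    [2],
    [7],
    [4, 6],
    [3, 4, 1, 6, 3],
    [3, 5, 7, 3]]

end Cfsg.Lib.HeldType.Amalgam
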