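import Cfsg.Agent.Lib.CosetEnum.Index
import Cfsg.Agent.Lib.HeldType.Amalgam.Data

/-!
# A group satisfying an amalgam's relators maps onto a simple model

If a coset enumeration bounds the index of a subgroup by the number of points of an orbit of the
model, the graph of the generators in the product is the graph of a homomorphism, unless the
subgroup is everything.
-/

set_option autoImplicit false

namespace Cfsg.Lib.HeldType.Amalgam

open Cfsg.Lib.CosetEnum

variable {H Q : Type*} [Group H] [Group Q]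

theorem wordVal_prod (x : ℕ → H) (y : ℕ → Q) :
    ∀ w : List ℕ, wordVal (fun g => (x g, y g)) w = (wordVal x w, wordVal y w)
  | [] => rfl
  | g :: w => by
    rw [wordVal, wordVal, wordVal, wordVal_prod x y w]
    unfold gen
    split <;> simp

/-- The value in one convention is the value of the reversed word in the other. -/
theorem wv_reverse (x : ℕ → H) : ∀ w : List ℕ, (∀ g ∈ w, g < eps) → wordVal x w = wv x w.reverse
  | [], _ => rfl
  | g :: w, h => by
    rw [wordVal, wv_reverse x w fun a ha => h a (List.mem_cons_of_mem _ ha), gen,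
      if_neg (Nat.ne_of_lt (h g List.mem_cons_self))]
    simp [wv]

/-- An enumeration with one coset shows that the subgroup is everything. -/
theorem closure_eq_top {c : StepCert} {R0 : List (List ℕ)} (hv : c.Valid R0) (hn : c.n = 1)
    (hS : c.S = List.range 8) {x : ℕ → H} (hx : ∀ g, x g * x g = 1)
    (hgen : Subgroup.closure (x '' {g | g < 8}) = ⊤) (hrel : ∀ r ∈ R0, wordVal x r = 1) :
    Subgroup.closure (wordVal x '' {u | u ∈ c.U}) = ⊤ := by
  set K := Subgroup.closure (wordVal x '' {u | u ∈ c.U})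
  obtain ⟨hfin, hcard⟩ := cert_bound hx
    (fun r hr q => by rw [act_eq_smul, shift_eq_one hx hv.shifts hrel r hr, one_smul])
    ((1 : H) : H ⧸ K) (U := c.U) (fun r hr => by
      rw [act_eq_smul]
      show ((wordVal x r * 1 : H) : H ⧸ K) = ((1 : H) : H ⧸ K)
      rw [QuotientGroup.eq, mul_one, mul_one, inv_mem_iff]
      exact Subgroup.subset_closure ⟨r, hr, rfl⟩)
    (S := c.S) (by have := hv.pos; rw [Bool.and_eq_true] at this; exact this.2)
    (by have := hv.pos; rw [Bool.and_eq_true] at this; exact this.1) hv.defs hv.steps hv.closed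
  rw [hn] at hcard
  rw [eq_top_iff]
  intro a _
  have ha : a ∈ Subgroup.closure (x '' {g | g ∈ c.S}) := by
    simp only [hS, List.mem_range]
    rw [hgen]
    trivial
  have h := (Set.ncard_le_one hfin).1 hcard _ ⟨⟨a, ha⟩, rfl⟩ _ (MulAction.mem_orbit_self _)
  replace h : ((a * 1 : H) : H ⧸ K) = ((1 : H) : H ⧸ K) := h
  rw [QuotientGroup.eq] at h
  simpa using h

/-- An enumeration as tight as an orbit of a simple model gives a homomorphism onto the model. -/
theorem exists_hom [IsSimpleGroup Q] {c : StepCert} {R0 : List (List ℕ)} (hv : c.Valid R0)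
    (hS : c.S = List.range 8) {x : ℕ → H} {y : ℕ → Q} (hx : ∀ g, x g * x g = 1)
    (hy : ∀ g, y g * y g = 1) (hgenx : Subgroup.closure (x '' {g | g < 8}) = ⊤)
    (hgeny : Subgroup.closure (y '' {g | g < 8}) = ⊤) (hrelx : ∀ r ∈ R0, wordVal x r = 1)
    (hrely : ∀ r ∈ R0, wordVal y r = 1) {α : Type*} [MulAction Q α] (a₀ : α)
    (hfix : ∀ u ∈ c.U, wordVal y u • a₀ = a₀) (horb : c.n ≤ (MulAction.orbit Q a₀).ncard)
    (hbig : Subgroup.closure (wordVal x '' {u | u ∈ c.U}) ≠ ⊤) :
    ∃ φ : H →* Q, Function.Surjective φ ∧ ∀ g < 8, φ (x g) = y g := by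
  classical
  let p : ℕ → H × Q := fun g => (x g, y g)
  have hp : ∀ g, p g * p g = 1 := fun g => Prod.ext (hx g) (hy g)
  set D := Subgroup.closure (p '' {g | g < 8}) with hD
  set K := Subgroup.closure (wordVal p '' {u | u ∈ c.U}) with hK
  have hfst : D.map (MonoidHom.fst H Q) = ⊤ := by
    rw [hD, MonoidHom.map_closure, ← Set.image_comp, ← hgenx]
    rfl
  have hsnd : D.map (MonoidHom.snd H Q) = ⊤ := by
    rw [hD, MonoidHom.map_closure, ← Set.image_comp, ← hgeny]
    rfl
  have hKfix : ∀ k ∈ K, k.2 • a₀ = a₀ := by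
    intro k hk
    induction hk using Subgroup.closure_induction with
    | one => exact one_smul Q a₀
    | mem z hz =>
      obtain ⟨u, hu, rfl⟩ := hz
      rw [wordVal_prod]
      exact hfix u hu
    | mul a b _ _ ha hb => rw [Prod.snd_mul, mul_smul, hb, ha]
    | inv a _ ha => rw [Prod.snd_inv, inv_smul_eq_iff, ha]
  -- the cosets met by `D` and their labels
  let Φ : (H × Q) ⧸ K → α := fun q => Quotient.liftOn' q (fun a => a.2 • a₀) (by
    intro a b hab
    rw [QuotientGroup.leftRel_apply] at hab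
    have h := hKfix _ hab
    rw [Prod.snd_mul, Prod.snd_inv, mul_smul, inv_smul_eq_iff] at h
    exact h.symm)
  let q₀ : (H × Q) ⧸ K := ((1 : H × Q) : (H × Q) ⧸ K)
  obtain ⟨hfin, hcard⟩ := cert_bound hp
    (fun r hr q => by
      rw [act_eq_smul, shift_eq_one hp hv.shifts (fun r hr => by
        rw [wordVal_prod, hrelx r hr, hrely r hr]; rfl) r hr, one_smul])
    q₀ (U := c.U) (fun r hr => by
      rw [act_eq_smul]
      show ((wordVal p r * 1 : H × Q) : (H × Q) ⧸ K) = ((1 : H × Q) : (H × Q) ⧸ K)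
      rw [QuotientGroup.eq, mul_one, mul_one, inv_mem_iff]
      exact Subgroup.subset_closure ⟨r, hr, rfl⟩)
    (S := c.S) (by have := hv.pos; rw [Bool.and_eq_true] at this; exact this.2)
    (by have := hv.pos; rw [Bool.and_eq_true] at this; exact this.1) hv.defs hv.steps hv.closed
  have hDS : Subgroup.closure (p '' {g | g ∈ c.S}) = D := by simp only [hS, List.mem_range]; rfl
  set O := MulAction.orbit (Subgroup.closure (p '' {g | g ∈ c.S})) q₀ with hO
  have hmemO : ∀ d ∈ D, ((d : H × Q) : (H × Q) ⧸ K) ∈ O := fun d hd =>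
    ⟨⟨d, hDS.symm ▸ hd⟩, show ((d * 1 : H × Q) : (H × Q) ⧸ K) = _ by rw [mul_one]⟩
  have hsub : MulAction.orbit Q a₀ ⊆ Φ '' O := by
    rintro _ ⟨q, rfl⟩
    obtain ⟨d, hd, rfl⟩ := hsnd.symm ▸ Subgroup.mem_top q
    exact ⟨_, hmemO d hd, rfl⟩
  have hinj : Set.InjOn Φ O := Set.injOn_of_ncard_image_eq
    (le_antisymm (Set.ncard_image_le hfin)
      (hcard.trans (horb.trans (Set.ncard_le_ncard hsub (hfin.image Φ))))) hfin
  have hstab : ∀ d ∈ D, d.2 • a₀ = a₀ → d ∈ K := by
    intro d hd h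
    have h1 := hinj (hmemO d hd) (hmemO 1 D.one_mem) (h.trans (one_smul Q a₀).symm)
    rw [QuotientGroup.eq, mul_one, inv_mem_iff] at h1
    exact h1
  let N : Subgroup Q := D.comap (MonoidHom.inr H Q)
  have hNn : N.Normal := ⟨fun n hn q => by
    obtain ⟨d, hd, rfl⟩ := hsnd.symm ▸ Subgroup.mem_top q
    show ((1 : H), _) ∈ D
    have h := D.mul_mem (D.mul_mem hd hn) (D.inv_mem hd)
    rwa [show d * (MonoidHom.inr H Q n) * d⁻¹ = ((1 : H), d.2 * n * d.2⁻¹) from
      Prod.ext (by simp) (by simp)] at h⟩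
  rcases hNn.eq_bot_or_eq_top with hN | hN
  · have huniq : ∀ h q q', (h, q) ∈ D → (h, q') ∈ D → q = q' := by
      intro h q q' h1 h2
      have h3 := D.mul_mem (D.inv_mem h1) h2
      rw [show ((h, q) : H × Q)⁻¹ * (h, q') = MonoidHom.inr H Q (q⁻¹ * q') from
        Prod.ext (by simp) (by simp)] at h3
      have h4 : q⁻¹ * q' ∈ N := h3
      rw [hN, Subgroup.mem_bot] at h4
      exact eq_of_inv_mul_eq_one h4
    have hex : ∀ h : H, ∃ q, (h, q) ∈ D := by
      intro h
      obtain ⟨d, hd, rfl⟩ := hfst.symm ▸ Subgroup.mem_top h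
      exact ⟨d.2, hd⟩
    choose f hf using hex
    let φ : H →* Q := MonoidHom.mk' f fun a b =>
      huniq _ _ _ (hf (a * b)) (D.mul_mem (hf a) (hf b))
    refine ⟨φ, fun q => ?_, fun g hg => ?_⟩
    · obtain ⟨d, hd, rfl⟩ := hsnd.symm ▸ Subgroup.mem_top q
      exact ⟨d.1, huniq _ _ _ (hf d.1) hd⟩
    · exact huniq _ _ _ (hf (x g)) (Subgroup.subset_closure ⟨g, hg, rfl⟩)
  · exfalso
    refine hbig (eq_top_iff.2 fun h _ => ?_)
    obtain ⟨d, hd, rfl⟩ := hfst.symm ▸ Subgroup.mem_top h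
    have h1 : MonoidHom.inr H Q d.2⁻¹ ∈ D := by
      have : d.2⁻¹ ∈ N := hN.symm ▸ Subgroup.mem_top _
      exact this
    have h2 : ((d.1, 1) : H × Q) ∈ D := by
      have := D.mul_mem hd h1
      rwa [show d * MonoidHom.inr H Q d.2⁻¹ = (d.1, 1) from Prod.ext (by simp) (by simp)] at this
    have h3 := hstab _ h2 (one_smul Q a₀)
    have h4 : K.map (MonoidHom.fst H Q) = Subgroup.closure (wordVal x '' {u | u ∈ c.U}) := by
      rw [hK, MonoidHom.map_closure, ← Set.image_comp]
      congr 1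
      exact Set.image_congr fun u _ => by simp [p, wordVal_prod]
    rw [← h4]
    exact ⟨_, h3, rfl⟩

/-- The homomorphism is injective when every normal subgroup meeting the centraliser of `z` contains `z`. -/
theorem injective_of_centralizer [Finite H] [IsSimpleGroup Q] (φ : H →* Q)
    (hφ : Function.Surjective φ) {z : H} (hz : z * z = 1) (hz1 : φ z ≠ 1)
    (hQ : ∃ q : Q, φ z * q ≠ q * φ z)
    (hC : ∀ N : Subgroup H, N.Normal → ∀ k ∈ N, k * z = z * k → k ≠ 1 → z ∈ N) :
    Function.Injective φ := by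
  set N := φ.ker with hN
  have hfix : ∀ k ∈ N, k * z = z * k → k = 1 := fun k hk hc => by
    by_contra hne
    exact hz1 (MonoidHom.mem_ker.1 (hC N inferInstance k hk hc hne))
  -- the involution inverts the kernel
  have hzi : z⁻¹ = z := inv_eq_of_mul_eq_one_left hz
  let σ : N →* N :=
    { toFun := fun k => ⟨z * k * z⁻¹,
        (inferInstance : N.Normal).conj_mem k k.2 z⟩
      map_one' := Subtype.ext (by simp)
      map_mul' := fun a b => Subtype.ext (by simp [mul_assoc]) }
  have hfp : MonoidHom.FixedPointFree σ := fun k hk => by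
    have h := congrArg Subtype.val hk
    exact Subtype.ext (hfix k k.2 (by
      conv_lhs => rw [← (show z * k * z⁻¹ = (k : H) from h)]
      group))
  have hinv : Function.Involutive σ := fun k => Subtype.ext (by
    show z * (z * k * z⁻¹) * z⁻¹ = k
    rw [hzi, ← mul_assoc, ← mul_assoc, hz, one_mul, mul_assoc, hz, mul_one])
  have hcoe := hfp.coe_eq_inv_of_involutive hinv
  have hinvert : ∀ k ∈ N, z * k * z⁻¹ = k⁻¹ := fun k hk => by
    have := congrArg Subtype.val (congrFun hcoe ⟨k, hk⟩)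
    exact this
  have hcomm : ∀ a ∈ N, ∀ b ∈ N, a * b = b * a := fun a ha b hb =>
    congrArg Subtype.val (hfp.commute_all_of_involutive hinv ⟨a, ha⟩ ⟨b, hb⟩).eq
  -- the centraliser of the kernel covers the model
  set C := Subgroup.centralizer (N : Set H) with hCdef
  have hCn : C.Normal := inferInstance
  have hzg : ∀ g : H, z * (g * z * g⁻¹) ∈ C := by
    intro g
    rw [hCdef, Subgroup.mem_centralizer_iff]
    intro k hk
    have h2 : g * z * g⁻¹ * k * (g * z * g⁻¹)⁻¹ = k⁻¹ := by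
      have h := hinvert _ ((inferInstance : N.Normal).conj_mem k hk g⁻¹)
      calc g * z * g⁻¹ * k * (g * z * g⁻¹)⁻¹ = g * (z * (g⁻¹ * k * g⁻¹⁻¹) * z⁻¹) * g⁻¹ := by group
        _ = g * (g⁻¹ * k * g⁻¹⁻¹)⁻¹ * g⁻¹ := by rw [h]
        _ = k⁻¹ := by group
    have h1 := hinvert _ (N.inv_mem hk)
    rw [inv_inv] at h1
    calc k * (z * (g * z * g⁻¹)) = z * k⁻¹ * z⁻¹ * (z * (g * z * g⁻¹)) := by rw [h1]
      _ = z * k⁻¹ * (g * z * g⁻¹) := by group
      _ = z * (g * z * g⁻¹ * k * (g * z * g⁻¹)⁻¹) * (g * z * g⁻¹) := by rw [h2]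
      _ = z * (g * z * g⁻¹) * k := by group
  have hmap : C.map φ = ⊤ := by
    refine ((hCn.map φ hφ).eq_bot_or_eq_top).resolve_left fun hbot => ?_
    obtain ⟨q, hq⟩ := hQ
    obtain ⟨g, rfl⟩ := hφ q
    refine hq ?_
    have : φ (z * (g * z * g⁻¹)) = 1 := Subgroup.mem_bot.1 (hbot ▸ Subgroup.mem_map_of_mem φ (hzg g))
    rw [map_mul, map_mul, map_mul, map_inv] at this
    have hzz : φ z * φ z = 1 := by rw [← map_mul, hz, map_one]
    have h3 : φ g * φ z * (φ g)⁻¹ = φ z := by
      rw [← one_mul (φ g * φ z * (φ g)⁻¹), ← hzz, mul_assoc, this, mul_one]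
    conv_lhs => rw [← h3]
    group
  rw [← MonoidHom.ker_eq_bot_iff, eq_bot_iff]
  intro k hk
  refine Subgroup.mem_bot.2 (hfix k hk ?_)
  obtain ⟨c, hc, hcz⟩ := (hmap.symm ▸ Subgroup.mem_top (φ z) : φ z ∈ C.map φ)
  have hd : z * c⁻¹ ∈ N := by rw [hN, MonoidHom.mem_ker, map_mul, map_inv, hcz, mul_inv_cancel]
  have h1 : c * k = k * c := (Subgroup.mem_centralizer_iff.1 hc k hk).symm
  calc k * z = k * (z * c⁻¹) * c := by group
    _ = z * c⁻¹ * k * c := by rw [hcomm k hk _ hd]
    _ = z * c⁻¹ * (k * c) := by group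
    _ = z * c⁻¹ * (c * k) := by rw [h1]
    _ = z * k := by group

end Cfsg.Lib.HeldType.Amalgam
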