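import Cfsg.Agent.Lib.CosetEnum.Index

/-!
# Tables for words in the generators of a table
-/

set_option autoImplicit false

namespace Cfsg.Lib.HeldType.Amalgam

open Cfsg.Lib.CosetEnum

/-- On a range of points the table `Z` lists the actions of the words `W` in the generators of `P`. -/
noncomputable def wordsOK (P Z : Tab) (k k' : ℕ) (W : List (List ℕ)) : ℕ → ℕ → Bool
  | 0, _ => true
  | m + 1, i => force i fun i =>
      ((List.range k').all fun j => Nat.beq (twalk P k (W.getD j []) i) (img Z k' j i)) &&
        wordsOK P Z k k' W m (i + 1)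

theorem wordsOK_append {P Z : Tab} {k k' : ℕ} {W : List (List ℕ)} : ∀ {a b i : ℕ},
    wordsOK P Z k k' W a i = true → wordsOK P Z k k' W b (i + a) = true →
      wordsOK P Z k k' W (a + b) i = true
  | 0, b, i, _, h => by simpa using h
  | a + 1, b, i, h, h' => by
    rw [wordsOK, force_eq, Bool.and_eq_true] at h
    rw [show a + 1 + b = (a + b) + 1 by omega, wordsOK, force_eq, Bool.and_eq_true]
    exact ⟨h.1, wordsOK_append h.2 (by rwa [show i + 1 + a = i + (a + 1) by omega])⟩

theorem wordsOK_get {P Z : Tab} {k k' : ℕ} {W : List (List ℕ)} : ∀ {m i : ℕ},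
    wordsOK P Z k k' W m i = true → ∀ j, i ≤ j → j < i + m → ∀ g < k',
      twalk P k (W.getD g []) j = img Z k' g j
  | 0, i, _, j, h1, h2 => by omega
  | m + 1, i, hc, j, h1, h2 => by
    rw [wordsOK, force_eq, Bool.and_eq_true] at hc
    rcases Nat.eq_or_lt_of_le h1 with h | h
    · subst h
      intro g hg
      have h3 := List.all_eq_true.1 hc.1 g (List.mem_range.2 hg)
      exact Nat.eq_of_beq_eq_true h3
    · exact wordsOK_get hc.2 j h (by omega)

/-- The listed table gives the values of the words. -/
theorem tperm_eq_wordVal {P Z : Tab} {k k' n : ℕ} {R R' : List (List ℕ)} {W : List (List ℕ)}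
    (hP : permOK P k n R n 0 = true) (hZ : permOK Z k' n R' n 0 = true) (hk : k ≤ eps)
    (hW : wordsOK P Z k k' W n 0 = true) {g : ℕ} (hg : g < k') (hlt : ∀ l ∈ W.getD g [], l < k) :
    tperm Z k' n g = wordVal (tperm P k n) (W.getD g []) := by
  ext i
  rw [tperm_apply hZ hg, wordVal_tperm hP hk _ hlt]
  exact (wordsOK_get hW i.1 (Nat.zero_le _) (by omega) g hg).symm

end Cfsg.Lib.HeldType.Amalgam
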