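import Cfsg.Agent.Lib.HeldType.Amalgam.Zee
import Cfsg.Agent.Lib.HeldType.Amalgam.He2.Group
import Cfsg.Agent.Lib.HeldType.Amalgam.He0.Valid
import Cfsg.Agent.Lib.HeldType.Amalgam.He1.Valid

/-!
# The amalgam of the Held group
-/

set_option autoImplicit false
set_option maxRecDepth 100000

namespace Cfsg.Lib.HeldType.Amalgam

open Cfsg.Lib.CosetEnum

set_option linter.style.haveILetI false

variable {H : Type*} [Group H]

/-- An option whose enumeration collapses is impossible. -/
theorem false_of_collapse {g : ℕ → H} {c : StepCert} {R0 : List (List ℕ)} (hv : c.Valid R0)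
    (hn : c.n = 1) (hS : c.S = List.range 8)
    (hR0 : (R0.all fun r => r.all fun i => Nat.blt i 8) = true)
    (hU : (c.U.all fun r => r.all fun i => Nat.blt i 8) = true)
    (hsq : ((List.range 8).all fun i => R0.contains [i, i]) = true)
    (hrel : ∀ r ∈ R0, wv g r = 1) (hgen : Subgroup.closure (g '' Set.Iio 8) = ⊤)
    (hbig : Subgroup.closure {x | ∃ w ∈ c.U, wv g w = x} ≠ ⊤) : False := by
  have hx := cut_sq hrel hsq
  refine hbig ?_
  rw [← closure_cut hx hU]
  exact closure_eq_top hv hn hS hx (by rw [image_cut]; exact hgen) (wordVal_cut hx hR0 hrel)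

theorem He_option_two [Finite H] (g : ℕ → H) (hrel : ∀ r ∈ relsHe ++ [sharedHe.getD 2 []], wv g r = 1)
    (hgen : Subgroup.closure (g '' Set.Iio 8) = ⊤)
    (hbig : Subgroup.closure {x | ∃ w ∈ subHe, wv g w = x} ≠ ⊤)
    (hC : ∀ N : Subgroup H, N.Normal → ∀ k ∈ N, k * wv g zWord = wv g zWord * k → k ≠ 1 → wv g zWord ∈ N) :
    Nonempty (H ≃* Cfsg.Spor.He) := by
  obtain ⟨y, π, hy, hgeny, hrely, hfix, htrans, hz, hzc⟩ := He2.exists_model
  have : IsSimpleGroup Cfsg.Spor.He := HePres.isHe.1
  letI : MulAction Cfsg.Spor.He (Fin 8330) := MulAction.compHom (Fin 8330) π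
  have hU : He2.cert.U = subHe := rfl
  refine iso_of_option (g := g) He2.cert_valid rfl (by decide +kernel) (by decide +kernel) hrel
    (by decide +kernel) hgen (by rw [hU]; exact hbig) hC hy hgeny hrely (0 : Fin 8330) hfix ?_
    (zWord_sq (cut_sq hrel (by decide +kernel)) fun r hr => hrel r (List.mem_append_left _ ?_)) hz hzc
  · have h : MulAction.orbit Cfsg.Spor.He (0 : Fin 8330) = Set.univ :=
      Set.eq_univ_of_forall fun j => htrans j
    rw [h, Set.ncard_univ, Nat.card_fin]
    exact le_refl 8330
  · exact List.mem_of_mem_filter hr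

/-- The letters with `x_B` replaced by its conjugate under the central involution. -/
def twist (g : ℕ → H) (i : ℕ) : H := if i = 7 then wv g zWord * g 7 * wv g zWord else g i

theorem twist_subst (g : ℕ → H) : ∀ w : List ℕ,
    wv (twist g) w = wv g (w.flatMap fun i => if i = 7 then zWord ++ [7] ++ zWord else [i])
  | [] => rfl
  | i :: w => by
    have ih := twist_subst g w
    simp only [wv, List.map_cons, List.prod_cons, List.flatMap_cons, List.map_append, List.prod_append]
      at ih ⊢
    rw [ih]
    congr 1
    unfold twist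
    split <;> simp [wv, mul_assoc]

theorem He_option_three [Finite H] (g : ℕ → H) (hrel : ∀ r ∈ relsHe ++ [sharedHe.getD 3 []], wv g r = 1)
    (hgen : Subgroup.closure (g '' Set.Iio 8) = ⊤)
    (hbig : Subgroup.closure {x | ∃ w ∈ subHe, wv g w = x} ≠ ⊤)
    (hC : ∀ N : Subgroup H, N.Normal → ∀ k ∈ N, k * wv g zWord = wv g zWord * k → k ≠ 1 → wv g zWord ∈ N) :
    Nonempty (H ≃* Cfsg.Spor.He) := by
  classical
  set Z := wv g zWord with hZ
  have hx := cut_sq hrel (by decide +kernel)
  have hrelC : ∀ r ∈ relC, wv g r = 1 := fun r hr =>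
    hrel r (List.mem_append_left _ (List.mem_of_mem_filter hr))
  have hrel' := wordVal_cut hx (by decide +kernel) hrel
  -- words with certified value one
  have hval : ∀ {c : LoopCert}, shiftsOK (relsHe ++ [sharedHe.getD 3 []]) c.R = true →
      loopOK c = true → (c.word.all fun i => Nat.blt i 8) = true → wv g c.word = 1 := by
    intro c hs hc hl
    have hl' : ∀ i ∈ c.word, i < 8 := fun i hi => by
      simpa [Nat.blt_eq] using List.all_eq_true.1 hl i hi
    have h := LoopCert.eq_one hs hc hx hrel'
    rwa [wordVal_eq_inv hx _ (fun i hi => lt_trans (hl' i hi) (by decide)), inv_eq_one,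
      wv_cut g _ hl'] at h
  have hZ2 : Z * Z = 1 := zWord_sq hx hrelC
  have hcomm : ∀ i ∈ [0, 1, 2, 3, 5], Z * g i * Z = g i := by
    intro i hi
    have hi8 : i < 8 := by revert i; decide
    have key : wv g (zWord ++ [i] ++ zWord ++ [i]) = 1 := by
      fin_cases hi
      · exact hval (c := Twist.comm0Cert) (by decide +kernel) Twist.comm0_ok (by decide)
      · exact hval (c := Twist.comm1Cert) (by decide +kernel) Twist.comm1_ok (by decide)
      · exact hval (c := Twist.comm2Cert) (by decide +kernel) Twist.comm2_ok (by decide)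
      · exact hval (c := Twist.comm3Cert) (by decide +kernel) Twist.comm3_ok (by decide)
      · exact hval (c := Twist.comm5Cert) (by decide +kernel) Twist.comm5_ok (by decide)
    have hii : g i * g i = 1 := by simpa [cut, if_pos hi8] using hx i
    simp only [wv, List.map_append, List.prod_append, List.map_cons, List.map_nil, List.prod_cons,
      List.prod_nil, mul_one] at key
    rw [show (List.map g zWord).prod = Z from rfl] at key
    calc Z * g i * Z = Z * g i * Z * (g i * g i) := by rw [hii, mul_one]
      _ = g i := by rw [← mul_assoc, show Z * g i * Z * g i = 1 from key, one_mul]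
  have hZt : wv (twist g) zWord = Z := by
    rw [twist_subst, hZ]
    exact congrArg (wv g) (by decide)
  have hB : ∀ w : List ℕ, (∀ i ∈ w, i ∈ [0, 1, 2, 3, 5, 7]) → wv (twist g) w = Z * wv g w * Z := by
    intro w
    induction w with
    | nil => intro _; simpa [wv] using hZ2.symm
    | cons i w ih =>
      intro hw
      have h1 : twist g i = Z * g i * Z := by
        have := hw i List.mem_cons_self
        by_cases h7 : i = 7
        · subst h7; simp [twist, ← hZ]
        · rw [twist, if_neg h7]
          exact (hcomm i (by simpa [h7] using this)).symm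
      have h2 := ih fun a ha => hw a (List.mem_cons_of_mem _ ha)
      simp only [wv, List.map_cons, List.prod_cons] at h2 ⊢
      rw [h1, h2]
      calc Z * g i * Z * (Z * (List.map g w).prod * Z)
          = Z * g i * (Z * Z) * (List.map g w).prod * Z := by group
        _ = Z * (g i * (List.map g w).prod) * Z := by rw [hZ2]; group
  have hsame : ∀ w : List ℕ, (∀ i ∈ w, i ≠ 7) → wv (twist g) w = wv g w := fun w hw => by
    simp only [wv]
    exact congrArg List.prod (List.map_congr_left fun i hi => if_neg (hw i hi))
  refine He_option_two (twist g) ?_ ?_ ?_ (by rw [hZt]; exact hC)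
  · intro r hr
    rcases List.mem_append.1 hr with hr | hr
    · have hsplit : (relsHe.all fun r => (r.all fun i => !Nat.beq i 7) ||
          r.all fun i => [0, 1, 2, 3, 5, 7].contains i) = true := by decide +kernel
      have h := List.all_eq_true.1 hsplit r hr
      rw [Bool.or_eq_true, List.all_eq_true, List.all_eq_true] at h
      have h1 := hrel r (List.mem_append_left _ hr)
      rcases h with h | h
      · rw [hsame r fun i hi h7 => by subst h7; simpa using h _ hi, h1]
      · rw [hB r fun i hi => List.mem_of_elem_eq_true (h i hi), h1, mul_one, hZ2]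
    · rw [List.mem_singleton.1 hr, twist_subst]
      exact hval (c := Twist.twistCert) (by decide +kernel) Twist.twist_ok (by decide)
  · refine top_le_iff.1 ?_
    rw [← hgen, Subgroup.closure_le]
    have hmem : ∀ i < 8, twist g i ∈ Subgroup.closure (twist g '' Set.Iio 8) := fun i hi =>
      Subgroup.subset_closure ⟨i, hi, rfl⟩
    have hwmem : ∀ w : List ℕ, (∀ i ∈ w, i < 8) →
        wv (twist g) w ∈ Subgroup.closure (twist g '' Set.Iio 8) := fun w hw =>
      Subgroup.list_prod_mem _ fun x hx => by
        obtain ⟨i, hi, rfl⟩ := List.mem_map.1 hx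
        exact hmem i (hw i hi)
    rintro _ ⟨i, hi, rfl⟩
    by_cases h7 : i = 7
    · subst h7
      have h := hwmem (zWord ++ [7] ++ zWord) (by decide)
      rw [twist_subst] at h
      have e : wv g ((zWord ++ [7] ++ zWord).flatMap fun i => if i = 7 then zWord ++ [7] ++ zWord else [i]) =
          Z * (Z * g 7 * Z) * Z := by
        simp [wv, zWord, hZ, mul_assoc]
      rw [e, show Z * (Z * g 7 * Z) * Z = Z * Z * g 7 * (Z * Z) by group, hZ2, one_mul, mul_one] at h
      exact h
    · have := hmem i hi
      rwa [twist, if_neg h7] at this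
  · intro htop
    refine hbig (top_le_iff.1 ?_)
    rw [← htop, Subgroup.closure_le]
    set K := Subgroup.closure {x | ∃ w ∈ subHe, wv g w = x}
    have hU : ∀ w ∈ subHe, wv g w ∈ K := fun w hw => Subgroup.subset_closure ⟨w, hw, rfl⟩
    have hZK : Z ∈ K := by
      have h := hval (c := Twist.zInUCert) (by decide +kernel) Twist.zInU_ok (by decide)
      have h3573 := hU [3, 5, 7, 3] (by decide)
      have h0 := hU [0] (by decide)
      have h1 := hU [1] (by decide)
      have hrev : wv g [3, 7, 5, 3] = (wv g [3, 5, 7, 3])⁻¹ := by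
        have h3 : g 3 * g 3 = 1 := by simpa [cut] using hx 3
        have h5 : g 5 * g 5 = 1 := by simpa [cut] using hx 5
        have h7 : g 7 * g 7 = 1 := by simpa [cut] using hx 7
        simp [wv, mul_assoc, inv_eq_of_mul_eq_one_left h3, inv_eq_of_mul_eq_one_left h5,
          inv_eq_of_mul_eq_one_left h7]
      have h2 : wv g [3, 5, 7, 3] * wv g [0] * wv g [1] * wv g [0] * wv g [3, 7, 5, 3] * Z = 1 := by
        rw [← h, hZ]
        simp [wv, Twist.zInUCert, zWord, mul_assoc]
      rw [eq_inv_of_mul_eq_one_right h2]
      exact K.inv_mem (K.mul_mem (K.mul_mem (K.mul_mem (K.mul_mem h3573 h0) h1) h0)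
        (hrev ▸ K.inv_mem h3573))
    rintro _ ⟨w, hw, rfl⟩
    have hsplit : (subHe.all fun r => (r.all fun i => !Nat.beq i 7) ||
        r.all fun i => [0, 1, 2, 3, 5, 7].contains i) = true := by decide +kernel
    have h := List.all_eq_true.1 hsplit w hw
    rw [Bool.or_eq_true, List.all_eq_true, List.all_eq_true] at h
    rcases h with h | h
    · rw [hsame w fun i hi h7 => by subst h7; simpa using h _ hi]
      exact hU w hw
    · rw [hB w fun i hi => List.mem_of_elem_eq_true (h i hi)]
      exact K.mul_mem (K.mul_mem hZK (hU w hw)) hZK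

/-- A group with the relators of the Held amalgam is the Held group. -/
theorem He_iso [Finite H] (g : ℕ → H) (i : ℕ) (hi : i < 4)
    (hrel : ∀ r ∈ relsHe ++ [sharedHe.getD i []], wv g r = 1)
    (hgen : Subgroup.closure (g '' Set.Iio 8) = ⊤)
    (hbig : Subgroup.closure {x | ∃ w ∈ subHe, wv g w = x} ≠ ⊤)
    (hC : ∀ N : Subgroup H, N.Normal → ∀ k ∈ N, k * wv g zWord = wv g zWord * k → k ≠ 1 → wv g zWord ∈ N) :
    Nonempty (H ≃* Cfsg.Spor.He) := by
  match i, hi with
  | 0, _ => exact (false_of_collapse He0.cert_valid rfl rfl (by decide +kernel) (by decide +kernel)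
      (by decide +kernel) hrel hgen hbig).elim
  | 1, _ => exact (false_of_collapse He1.cert_valid rfl rfl (by decide +kernel) (by decide +kernel)
      (by decide +kernel) hrel hgen hbig).elim
  | 2, _ => exact He_option_two g hrel hgen hbig hC
  | 3, _ => exact He_option_three g hrel hgen hbig hC
  | n + 4, h => omega

end Cfsg.Lib.HeldType.Amalgam
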