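import Cfsg.Agent.Lib.HeldType.Amalgam.Bridge
import Cfsg.Agent.Lib.HeldType.Code
import Cfsg.Agent.Lib.Linear.SLBasic

/-!
# The five-dimensional linear group over two elements realises an amalgam
-/

set_option autoImplicit false
set_option maxRecDepth 100000
set_option linter.style.haveILetI false

namespace Cfsg.Lib.HeldType.Amalgam

open Cfsg.Lib.CosetEnum Matrix
open scoped Pointwise

/-- The matrix with given rows. -/
def matR (A : List ℕ) : Matrix (Fin 5) (Fin 5) (ZMod 2) :=
  Matrix.of fun i j => bz (A.getD i.1 0) j.1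

/-- A row times the rows. -/
def vm5 (v : ℕ) (B : List ℕ) : ℕ :=
  Nat.xor (Nat.xor (Nat.xor (Nat.xor (Nat.mul (Nat.mod v 2) (B.getD 0 0))
    (Nat.mul (Nat.mod (Nat.div v 2) 2) (B.getD 1 0))) (Nat.mul (Nat.mod (Nat.div v 4) 2) (B.getD 2 0)))
    (Nat.mul (Nat.mod (Nat.div v 8) 2) (B.getD 3 0))) (Nat.mul (Nat.mod (Nat.div v 16) 2) (B.getD 4 0))

/-- The product of two lists of rows. -/
def mulR (A B : List ℕ) : List ℕ := [0, 1, 2, 3, 4].map fun i => vm5 (A.getD i 0) B

theorem bz_div (v a : ℕ) : bz (Nat.div v (2 ^ a)) 0 = bz v a := by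
  show bz (v / 2 ^ a) 0 = _
  simp only [bz, Nat.testBit_eq_decide_div_mod_eq, pow_zero, Nat.div_one]

theorem matR_mulR (A B : List ℕ) : matR (mulR A B) = matR A * matR B := by
  ext i j
  have e : (mulR A B).getD i.1 0 = vm5 (A.getD i.1 0) B := by fin_cases i <;> rfl
  rw [Matrix.mul_apply, matR, Matrix.of_apply, e, vm5, bz_xor, bz_xor, bz_xor, bz_xor, bz_low, bz_low,
    bz_low, bz_low, bz_low, Fin.sum_univ_five]
  have h1 : bz (Nat.div (A.getD i.1 0) 2) 0 = bz (A.getD i.1 0) 1 := bz_div (A.getD i.1 0) 1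
  have h2 : bz (Nat.div (A.getD i.1 0) 4) 0 = bz (A.getD i.1 0) 2 := bz_div (A.getD i.1 0) 2
  have h3 : bz (Nat.div (A.getD i.1 0) 8) 0 = bz (A.getD i.1 0) 3 := bz_div (A.getD i.1 0) 3
  have h4 : bz (Nat.div (A.getD i.1 0) 16) 0 = bz (A.getD i.1 0) 4 := bz_div (A.getD i.1 0) 4
  rw [h1, h2, h3, h4]
  rfl

/-- The rows of a word. -/
def evR (rows : List (List ℕ)) (w : List ℕ) : List ℕ :=
  w.foldr (fun i B => mulR (rows.getD i []) B) [1, 2, 4, 8, 16]

theorem matR_one : matR [1, 2, 4, 8, 16] = 1 := by decide +kernel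

/-- The rows of an elementary transvection. -/
def tvRows (i j : ℕ) : List ℕ :=
  [0, 1, 2, 3, 4].map fun k => bif Nat.beq k i then Nat.add (2 ^ k) (2 ^ j) else 2 ^ k

theorem matR_tvRows : ∀ i j : Fin 5, i ≠ j → matR (tvRows i.1 j.1) = Matrix.transvection i j 1 := by
  decide +kernel

/-- The five-tuple of a number. -/
def vecN (v : ℕ) : Fin 5 → ZMod 2 := fun i => bz v i.1

/-- The set of vectors of a mask. -/
def vset (m : ℕ) : Finset (Fin 5 → ZMod 2) :=
  ((List.range 32).filter fun v => Nat.testBit m v).toFinset.image vecN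

/-- A matrix on a vector number. -/
def avN (A : List ℕ) (v : ℕ) : ℕ :=
  Nat.add (Nat.mul (par (Nat.land (A.getD 0 0) v)) 1) (Nat.add (Nat.mul (par (Nat.land (A.getD 1 0) v)) 2)
    (Nat.add (Nat.mul (par (Nat.land (A.getD 2 0) v)) 4) (Nat.add (Nat.mul (par (Nat.land (A.getD 3 0) v)) 8)
      (Nat.mul (par (Nat.land (A.getD 4 0) v)) 16))))
where
  /-- The parity of a number below 32. -/
  par (x : ℕ) : ℕ := Nat.mod (Nat.shiftRight 2523490710 x) 2

theorem par_spec : ∀ a < 32, ∀ v < 32,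
    (avN.par (Nat.land a v) : ZMod 2) = ∑ k : Fin 5, bz a k.1 * bz v k.1 := by decide +kernel

theorem bz_five : ∀ p < 2, ∀ q < 2, ∀ r < 2, ∀ s < 2, ∀ t < 2, ∀ k : Fin 5,
    bz (Nat.add (Nat.mul p 1) (Nat.add (Nat.mul q 2) (Nat.add (Nat.mul r 4) (Nat.add (Nat.mul s 8)
      (Nat.mul t 16))))) k.1 = (([p, q, r, s, t].getD k.1 0 : ℕ) : ZMod 2) := by decide +kernel

theorem mulVec_vecN {A : List ℕ} (hA : ∀ i, A.getD i 0 < 32) {v : ℕ} (hv : v < 32) :
    matR A *ᵥ vecN v = vecN (avN A v) := by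
  funext i
  have hp : ∀ x, avN.par x < 2 := fun x => Nat.mod_lt _ (by norm_num)
  show ∑ k : Fin 5, bz (A.getD i.1 0) k.1 * bz v k.1 = bz (avN A v) i.1
  rw [avN, bz_five _ (hp _) _ (hp _) _ (hp _) _ (hp _) _ (hp _) i, ← par_spec _ (hA _) _ hv]
  fin_cases i <;> rfl

theorem vecN_inj : ∀ a < 32, ∀ b < 32, vecN a = vecN b → a = b := by decide +kernel

theorem vset_inj {a b : ℕ} (ha : a < 2 ^ 32) (hb : b < 2 ^ 32) (h : vset a = vset b) : a = b := by
  refine Nat.eq_of_testBit_eq fun v => ?_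
  by_cases hv : v < 32
  · have key : ∀ m, vecN v ∈ vset m ↔ m.testBit v = true := fun m => by
      simp only [vset, Finset.mem_image, List.mem_toFinset, List.mem_filter, List.mem_range]
      exact ⟨fun ⟨u, ⟨hu, hb⟩, e⟩ => vecN_inj u hu v hv e ▸ hb, fun hb => ⟨v, ⟨hv, hb⟩, rfl⟩⟩
    exact Bool.eq_iff_iff.2 (by rw [← key a, ← key b, h])
  · have hle : 2 ^ 32 ≤ 2 ^ v := Nat.pow_le_pow_right (by norm_num) (by omega)
    rw [Nat.testBit_lt_two_pow (lt_of_lt_of_le ha hle), Nat.testBit_lt_two_pow (lt_of_lt_of_le hb hle)]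

/-- A matrix carries one mask to another. -/
def moveR (A : List ℕ) (a b : ℕ) : Bool :=
  ((List.range 5).all fun i => Nat.blt (A.getD i 0) 32) && Nat.beq A.length 5 &&
    (List.range 32).all fun v => Nat.blt (avN A v) 32 && (Nat.testBit a v == Nat.testBit b (avN A v))

/-- The checks on the model's data. -/
def linOK (rows : List (List ℕ)) (R U tv : List (List ℕ)) (nodes : List ℕ) (tr : List (ℕ × ℕ)) : Bool :=
  (R.all fun r => r.all (fun i => Nat.blt i 8) && evR rows r == [1, 2, 4, 8, 16]) &&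
    ((List.range 20).all fun t => (tv.getD t []).all (fun i => Nat.blt i 8) &&
      evR rows (tv.getD t []) == tvRows (t / 4) (bif Nat.blt (t % 4) (t / 4) then t % 4 else t % 4 + 1)) &&
    (U.all fun u => match u with
      | [i] => Nat.blt i 8 && moveR (rows.getD i []) (nodes.getD 0 0) (nodes.getD 0 0)
      | _ => false) &&
    ((List.range tr.length).all fun j => Nat.ble (tr.getD j (0, 0)).1 j && Nat.blt (tr.getD j (0, 0)).2 8 &&
      moveR (rows.getD (tr.getD j (0, 0)).2 []) (nodes.getD (tr.getD j (0, 0)).1 0) (nodes.getD (j + 1) 0)) &&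
    Nat.beq (tr.length + 1) nodes.length && nodes.all (fun m => Nat.blt m 4294967296)

/-- The model from checked data. -/
theorem l5_model {rows R U tv : List (List ℕ)} {nodes : List ℕ} {tr : List (ℕ × ℕ)}
    (h : linOK rows R U tv nodes tr = true) (hnd : nodes.Nodup)
    (hdet : ∀ i : Fin 8, (matR (rows.getD i.1 [])).det = 1 ∧
      matR (rows.getD i.1 []) * matR (rows.getD i.1 []) = 1)
    (hzc : ∃ i : Fin 8, matR (evR rows (zWord ++ [i.1])) ≠ matR (evR rows (i.1 :: zWord)))
    (hzm : matR (evR rows zWord) ≠ 1) :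
    ∃ y : ℕ → SpecialLinearGroup (Fin 5) (ZMod 2), (∀ i, y i * y i = 1) ∧
      Subgroup.closure (y '' {i | i < 8}) = ⊤ ∧ (∀ r ∈ R, wordVal y r = 1) ∧
      (∃ π : SpecialLinearGroup (Fin 5) (ZMod 2) →* Equiv.Perm (Finset (Fin 5 → ZMod 2)),
        ∃ a₀ : Finset (Fin 5 → ZMod 2), (∀ u ∈ U, π (wordVal y u) a₀ = a₀) ∧
          nodes.length ≤ {b | ∃ q, π q a₀ = b}.ncard) ∧
      wv y zWord ≠ 1 ∧ ∃ q, wv y zWord * q ≠ q * wv y zWord := by
  classical
  letI : MulAction (SpecialLinearGroup (Fin 5) (ZMod 2)) (Fin 5 → ZMod 2) :=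
    { smul := fun A v => (A : Matrix (Fin 5) (Fin 5) (ZMod 2)) *ᵥ v
      one_smul := fun v => by
        show ((1 : SpecialLinearGroup (Fin 5) (ZMod 2)) : Matrix (Fin 5) (Fin 5) (ZMod 2)) *ᵥ v = v
        simp
      mul_smul := fun A B v => by
        show ((A * B : SpecialLinearGroup (Fin 5) (ZMod 2)) : Matrix (Fin 5) (Fin 5) (ZMod 2)) *ᵥ v =
          (A : Matrix (Fin 5) (Fin 5) (ZMod 2)) *ᵥ ((B : Matrix (Fin 5) (Fin 5) (ZMod 2)) *ᵥ v)
        simp [Matrix.mulVec_mulVec] }
  simp only [linOK, Bool.and_eq_true, List.all_eq_true, List.mem_range] at h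
  obtain ⟨⟨⟨⟨⟨hR, htv⟩, hU⟩, htr⟩, hlen⟩, hlt⟩ := h
  let y : ℕ → SpecialLinearGroup (Fin 5) (ZMod 2) := fun i =>
    ⟨if i < 8 then matR (rows.getD i []) else 1, by
      by_cases h : i < 8
      · rw [if_pos h]; exact (hdet ⟨i, h⟩).1
      · rw [if_neg h]; exact Matrix.det_one⟩
  have hcoe : ∀ i < 8, ((y i : SpecialLinearGroup (Fin 5) (ZMod 2)) : Matrix (Fin 5) (Fin 5) (ZMod 2)) =
      matR (rows.getD i []) := fun i hi => if_pos hi
  have hy : ∀ i, y i * y i = 1 := fun i => by
    refine Subtype.ext ?_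
    show (if i < 8 then matR (rows.getD i []) else 1) * (if i < 8 then matR (rows.getD i []) else 1) = 1
    by_cases h : i < 8
    · rw [if_pos h]; exact (hdet ⟨i, h⟩).2
    · rw [if_neg h, one_mul]
  have hval : ∀ w : List ℕ, (∀ i ∈ w, i < 8) →
      ((wv y w : SpecialLinearGroup (Fin 5) (ZMod 2)) : Matrix (Fin 5) (Fin 5) (ZMod 2)) = matR (evR rows w) := by
    intro w
    induction w with
    | nil => intro _; simpa [wv, evR] using matR_one.symm
    | cons i w ih =>
      intro hw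
      have hi := hw i List.mem_cons_self
      have := ih fun a ha => hw a (List.mem_cons_of_mem _ ha)
      rw [show wv y (i :: w) = y i * wv y w from rfl,
        show evR rows (i :: w) = mulR (rows.getD i []) (evR rows w) from rfl, matR_mulR, ← this, ← hcoe i hi]
      exact Matrix.SpecialLinearGroup.coe_mul (y i) (wv y w)
  have hblt : ∀ {w : List ℕ}, (∀ i ∈ w, Nat.blt i 8 = true) → ∀ i ∈ w, i < 8 := fun h i hi => by
    simpa [Nat.blt_eq] using h i hi
  have hstep : ∀ i < 8, ∀ a b : ℕ, moveR (rows.getD i []) a b = true → y i • vset a = vset b := by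
    intro i hi a b hm
    simp only [moveR, Bool.and_eq_true, List.all_eq_true, List.mem_range, Nat.blt_eq, beq_iff_eq,
      Nat.beq_eq] at hm
    obtain ⟨⟨h1, h2⟩, h3⟩ := hm
    have hA : ∀ k, (rows.getD i []).getD k 0 < 32 := fun k => by
      by_cases hk : k < 5
      · exact h1 k hk
      · rw [List.getD_eq_default _ _ (by omega)]; norm_num
    have hact : ∀ v < 32, y i • vecN v = vecN (avN (rows.getD i []) v) := fun v hv => by
      show ((y i : SpecialLinearGroup (Fin 5) (ZMod 2)) : Matrix (Fin 5) (Fin 5) (ZMod 2)) *ᵥ _ = _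
      rw [hcoe i hi]
      exact mulVec_vecN hA hv
    have hsurj : ∀ u : Fin 5 → ZMod 2, ∃ v < 32, vecN v = u := by decide +kernel
    ext u
    rw [Finset.mem_smul_finset]
    constructor
    · rintro ⟨p, hp, rfl⟩
      simp only [vset, Finset.mem_image, List.mem_toFinset, List.mem_filter, List.mem_range] at hp ⊢
      obtain ⟨v, ⟨hv, hb⟩, rfl⟩ := hp
      exact ⟨avN (rows.getD i []) v, ⟨(h3 v hv).1, (h3 v hv).2 ▸ hb⟩, (hact v hv).symm⟩
    · intro hu
      obtain ⟨v, hv, hvu⟩ := hsurj ((y i)⁻¹ • u)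
      refine ⟨vecN v, ?_, by rw [hvu, smul_inv_smul]⟩
      simp only [vset, Finset.mem_image, List.mem_toFinset, List.mem_filter, List.mem_range] at hu ⊢
      obtain ⟨w, ⟨hw, hb⟩, hwu⟩ := hu
      have e : avN (rows.getD i []) v = w := vecN_inj _ (h3 v hv).1 _ hw (by
        rw [← hact v hv, hvu, smul_inv_smul, hwu])
      exact ⟨v, ⟨hv, by rw [(h3 v hv).2, e, hb]⟩, rfl⟩
  have hlen' : tr.length + 1 = nodes.length := Nat.eq_of_beq_eq_true hlen
  refine ⟨y, hy, ?_, fun r hr => ?_, ⟨MulAction.toPermHom _ _, vset (nodes.getD 0 0), fun u hu => ?_, ?_⟩, ?_, ?_⟩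
  · refine top_le_iff.1 ?_
    rw [← Cfsg.Lib.Linear.closure_transvection_eq_top, Subgroup.closure_le]
    rintro _ ⟨i, j, hij, c, rfl⟩
    rcases (show c = 0 ∨ c = 1 by revert c; decide) with rfl | rfl
    · rw [show SpecialLinearGroup.transvection hij (0 : ZMod 2) = 1 from Subtype.ext (by simp)]
      exact one_mem _
    · obtain ⟨t, ht, e1, e2⟩ : ∃ t < 20, t / 4 = i.1 ∧
          (bif Nat.blt (t % 4) (t / 4) then t % 4 else t % 4 + 1) = j.1 := by
        revert hij; revert i j; decide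
      obtain ⟨hl, he⟩ := htv t ht
      have hl' := hblt hl
      rw [beq_iff_eq] at he
      have : wv y (tv.getD t []) = SpecialLinearGroup.transvection hij (1 : ZMod 2) := Subtype.ext (by
        rw [hval _ hl', he, e2, e1, matR_tvRows i j hij]
        rfl)
      rw [← this]
      exact Subgroup.list_prod_mem _ fun x hx => by
        obtain ⟨l, hl2, rfl⟩ := List.mem_map.1 hx
        exact Subgroup.subset_closure ⟨l, hl' l hl2, rfl⟩
  · have h1 := hR r hr
    have hl' := hblt h1.1
    rw [wordVal_eq_inv hy r fun i hi => lt_trans (hl' i hi) (by decide), inv_eq_one]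
    exact Subtype.ext (by rw [hval r hl', (beq_iff_eq.1 h1.2), matR_one]; rfl)
  · have h1 := hU u hu
    rcases u with _ | ⟨i, _ | _⟩ <;> simp only [Bool.false_eq_true] at h1
    rw [Bool.and_eq_true, Nat.blt_eq] at h1
    rw [show wordVal y [i] = y i by
      simp [wordVal, gen, Nat.ne_of_lt (lt_trans h1.1 (by decide : 8 < eps))]]
    exact hstep i h1.1 _ _ h1.2
  · have horb : ∀ j < nodes.length, vset (nodes.getD j 0) ∈
        MulAction.orbit (SpecialLinearGroup (Fin 5) (ZMod 2)) (vset (nodes.getD 0 0)) := by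
      intro j
      induction j using Nat.strong_induction_on with
      | _ j ih =>
        intro hj
        rcases j with _ | j
        · exact MulAction.mem_orbit_self _
        · obtain ⟨⟨h1, h2⟩, h3⟩ := htr j (by omega)
          rw [Nat.ble_eq] at h1
          rw [Nat.blt_eq] at h2
          rw [← hstep _ h2 _ _ h3]
          exact MulAction.mem_orbit_of_mem_orbit _ (ih _ (by omega) (by omega))
    have hsub : ↑(nodes.map vset).toFinset ⊆
        MulAction.orbit (SpecialLinearGroup (Fin 5) (ZMod 2)) (vset (nodes.getD 0 0)) := by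
      intro S hS
      obtain ⟨m, hm, rfl⟩ := List.mem_map.1 (List.mem_toFinset.1 hS)
      obtain ⟨j, hj, rfl⟩ := List.getElem_of_mem hm
      have := horb j hj
      rwa [List.getD_eq_getElem _ _ hj] at this
    have hc := Set.ncard_le_ncard hsub (Set.toFinite _)
    rw [Set.ncard_coe_finset, List.toFinset_card_of_nodup (List.Nodup.map_on (fun a ha b hb e =>
      vset_inj (by simpa [Nat.blt_eq] using hlt a ha) (by simpa [Nat.blt_eq] using hlt b hb) e) hnd),
      List.length_map] at hc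
    exact hc
  · intro h1
    have := hval zWord (by decide)
    rw [h1] at this
    exact hzm this.symm
  · obtain ⟨i, hi⟩ := hzc
    refine ⟨y i.1, fun h1 => hi ?_⟩
    have hl : ∀ l ∈ zWord, l < 8 := by decide
    rw [← hval _ (fun l hl' => by
        rcases List.mem_append.1 hl' with h | h
        exacts [hl l h, (List.mem_singleton.1 h) ▸ i.2]),
      ← hval _ (fun l hl' => by
        rcases List.mem_cons.1 hl' with rfl | h
        exacts [i.2, hl l h])]
    refine congrArg Subtype.val ?_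
    show wv y (zWord ++ [i.1]) = wv y (i.1 :: zWord)
    rw [show wv y (zWord ++ [i.1]) = wv y zWord * y i.1 by
      simp only [wv, List.map_append, List.prod_append, List.map_cons, List.map_nil, List.prod_cons, List.prod_nil, mul_one],
      show wv y (i.1 :: zWord) = y i.1 * wv y zWord from rfl]
    exact h1

end Cfsg.Lib.HeldType.Amalgam
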