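import Cfsg.Agent.Lib.HeldType.Amalgam.He
import Cfsg.Agent.Lib.HeldType.Amalgam.L5Model
import Cfsg.Agent.Lib.HeldType.Amalgam.L50.Valid
import Cfsg.Agent.Lib.HeldType.Amalgam.L50.ModelData
import Cfsg.Agent.Lib.HeldType.Amalgam.L51.Valid
import Cfsg.Agent.Lib.HeldType.Amalgam.L52.Valid
import Cfsg.Agent.Lib.HeldType.Amalgam.L53.Valid
import Cfsg.Agent.Lib.HeldType.Amalgam.L53.ModelData

/-!
# The amalgam of the five-dimensional linear group over two elements
-/

set_option autoImplicit false
set_option maxRecDepth 100000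

namespace Cfsg.Lib.HeldType.Amalgam

open Cfsg.Lib.CosetEnum Matrix

variable {H : Type*} [Group H]

/-- The special linear group in dimension five over two elements is simple. -/
theorem sl_five_simple : IsSimpleGroup (SpecialLinearGroup (Fin 5) (ZMod 2)) := by
  have h := Cfsg.Lib.Linear.PSL_simple_of_three_le (ι := Fin 5) (F := ZMod 2) (by simp)
  have hc : Subgroup.center (SpecialLinearGroup (Fin 5) (ZMod 2)) = ⊥ := by
    refine eq_bot_iff.2 fun A hA => Subgroup.mem_bot.2 ?_
    obtain ⟨r, hr, hrA⟩ := Matrix.SpecialLinearGroup.mem_center_iff.1 hA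
    obtain rfl : r = 1 := (by decide : ∀ t : ZMod 2, t ^ 5 = 1 → t = 1) r (by simpa using hr)
    exact Subtype.ext (by rw [← hrA]; simp)
  let e : SpecialLinearGroup (Fin 5) (ZMod 2) ≃* ProjectiveSpecialLinearGroup (Fin 5) (ZMod 2) :=
    QuotientGroup.quotientBot.symm.trans (QuotientGroup.quotientMulEquivOfEq hc.symm)
  exact e.isSimpleGroup_congr.2 h

theorem L5_option [Finite H] {g : ℕ → H}
    {c : StepCert} {R0 rows tv : List (List ℕ)} {nodes : List ℕ} {tr : List (ℕ × ℕ)}
    (hv : c.Valid R0) (hS : c.S = List.range 8) (hU : c.U = subL5)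
    (hR0 : (R0.all fun r => r.all fun i => Nat.blt i 8) = true)
    (hsq : ((List.range 8).all fun i => R0.contains [i, i]) = true)
    (hC0 : (relC.all fun r => R0.contains r) = true)
    (hn : nodes.length = c.n) (hlin : linOK rows R0 subL5 tv nodes tr = true) (hnd : nodes.Nodup)
    (hdet : ∀ i : Fin 8, (matR (rows.getD i.1 [])).det = 1 ∧
      matR (rows.getD i.1 []) * matR (rows.getD i.1 []) = 1)
    (hzc : ∃ i : Fin 8, matR (evR rows (zWord ++ [i.1])) ≠ matR (evR rows (i.1 :: zWord)))
    (hzm : matR (evR rows zWord) ≠ 1)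
    (hrel : ∀ r ∈ R0, wv g r = 1) (hgen : Subgroup.closure (g '' Set.Iio 8) = ⊤)
    (hbig : Subgroup.closure {x | ∃ w ∈ subL5, wv g w = x} ≠ ⊤)
    (hC : ∀ N : Subgroup H, N.Normal → ∀ k ∈ N, k * wv g zWord = wv g zWord * k → k ≠ 1 → wv g zWord ∈ N) :
    Nonempty (H ≃* SpecialLinearGroup (Fin 5) (ZMod 2)) := by
  have := sl_five_simple
  obtain ⟨y, hy, hgeny, hrely, ⟨π, a₀, hfix, horb⟩, hz, hzq⟩ := l5_model hlin hnd hdet hzc hzm
  let _ : MulAction (SpecialLinearGroup (Fin 5) (ZMod 2)) (Finset (Fin 5 → ZMod 2)) :=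
    MulAction.compHom _ π
  refine iso_of_option (g := g) hv hS hR0 (by rw [hU]; decide) hrel hsq hgen (by rw [hU]; exact hbig) hC
    hy hgeny hrely a₀ (by rw [hU]; exact hfix) (hn ▸ horb) (zWord_sq (cut_sq hrel hsq) fun r hr => hrel r ?_)
    hz hzq
  exact List.mem_of_elem_eq_true (List.all_eq_true.1 hC0 r hr)

/-- A group with the relators of the amalgam is the linear group. -/
theorem L5_iso [Finite H] (g : ℕ → H) (i : ℕ)
    (hi : i < 4) (hrel : ∀ r ∈ relsL5 ++ [sharedL5.getD i []], wv g r = 1)
    (hgen : Subgroup.closure (g '' Set.Iio 8) = ⊤)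
    (hbig : Subgroup.closure {x | ∃ w ∈ subL5, wv g w = x} ≠ ⊤)
    (hC : ∀ N : Subgroup H, N.Normal → ∀ k ∈ N, k * wv g zWord = wv g zWord * k → k ≠ 1 → wv g zWord ∈ N) :
    Nonempty (H ≃* SpecialLinearGroup (Fin 5) (ZMod 2)) := by
  match i, hi with
  | 0, _ => exact L5_option L50.cert_valid rfl rfl (by decide +kernel) (by decide +kernel)
              (by decide +kernel) (by decide +kernel : L50.nodes.length = L50.cert.n)
              (by decide +kernel : linOK L50.rows L50.relators subL5 L50.tvWords L50.nodes L50.tree = true)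
              (by decide +kernel) (by decide +kernel) (by decide +kernel) (by decide +kernel) hrel hgen hbig hC
  | 1, _ => exact (false_of_collapse L51.cert_valid rfl rfl (by decide +kernel) (by decide +kernel)
              (by decide +kernel) hrel hgen hbig).elim
  | 2, _ => exact (false_of_collapse L52.cert_valid rfl rfl (by decide +kernel) (by decide +kernel)
              (by decide +kernel) hrel hgen hbig).elim
  | 3, _ => exact L5_option L53.cert_valid rfl rfl (by decide +kernel) (by decide +kernel)
              (by decide +kernel) (by decide +kernel : L53.nodes.length = L53.cert.n)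
              (by decide +kernel : linOK L53.rows L53.relators subL5 L53.tvWords L53.nodes L53.tree = true)
              (by decide +kernel) (by decide +kernel) (by decide +kernel) (by decide +kernel) hrel hgen hbig hC
  | n + 4, h => omega

end Cfsg.Lib.HeldType.Amalgam
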