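import Cfsg.Agent.Lib.Concrete.Mathieu
import Cfsg.Agent.Lib.Concrete.TrioSext
import Cfsg.Agent.Lib.Concrete.MathieuSearch
import Cfsg.Agent.Lib.HeldType.Amalgam.Bridge

/-!
# The Mathieu group realises an amalgam
-/

set_option autoImplicit false
set_option maxRecDepth 100000

namespace Cfsg.Lib.HeldType.Amalgam

open Cfsg.Lib.CosetEnum Cfsg.Lib.Concrete
open scoped Pointwise

/-- A packed permutation of the positions as an involution of the points, if it is one. -/
noncomputable def permOfPack (p : ℕ) : Equiv.Perm GolayPt :=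
  open scoped Classical in
  if h : Function.Involutive (fun x : GolayPt => gpt (Fin.ofNat 24 (pget p (gidx x).val))) then
    Function.Involutive.toPerm _ h else 1

/-- A packed permutation is an involution. -/
def packOK (p : ℕ) : Bool :=
  bits24.all fun i => Nat.blt (pget p i) 24 && Nat.beq (pget p (pget p i)) i

theorem rep_permOfPack {p : ℕ} (h : packOK p = true) : Rep (permOfPack p) p ∧
    permOfPack p * permOfPack p = 1 := by
  have hs : ∀ i < 24, pget p i < 24 ∧ pget p (pget p i) = i := fun i hi => by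
    have := List.all_eq_true.1 h i (mem_bits24.2 hi)
    simpa [Nat.blt_eq] using this
  have hget : ∀ x : GolayPt, (gidx (gpt (Fin.ofNat 24 (pget p (gidx x).val)))).val = pget p (gidx x).val :=
    fun x => by
      rw [gidx_gpt]
      exact Nat.mod_eq_of_lt (hs _ (gidx x).isLt).1
  have hinv : Function.Involutive (fun x : GolayPt => gpt (Fin.ofNat 24 (pget p (gidx x).val))) := by
    intro x
    refine gidx_injective (Fin.ext ?_)
    rw [hget, hget]
    exact (hs _ (gidx x).isLt).2
  rw [permOfPack, dif_pos hinv]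
  exact ⟨hget, Equiv.ext hinv⟩

/-- The permutations of a list. -/
noncomputable def permsOf (ps : List ℕ) (i : ℕ) : Equiv.Perm GolayPt :=
  if i < 8 then permOfPack (ps.getD i 0) else 1

/-- The checks on the permutations: involutions of the code, satisfying the words. -/
def permsOK (ps : List ℕ) (R gw : List (List ℕ)) : Bool :=
  (List.range 8).all (fun i => packOK (ps.getD i 0) &&
      basisMasks.all (fun b => isCode (pimg (ps.getD i 0) b) && decide (pimg (ps.getD i 0) b < 16777216))) &&
    R.all (fun r => r.all (fun i => Nat.blt i 8) && bits24.all fun x => Nat.beq (evalW ps r x) x) &&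
    (List.range 3).all (fun j => (gw.getD j []).all (fun i => Nat.blt i 8) &&
      bits24.all fun x => Nat.beq (evalW ps (gw.getD j []) x) (pget (m24Perms.getD (j + 1) 0) x))

/-- The image of a family lies in another. -/
def movesTo (p : ℕ) (a b : List ℕ) : Bool := a.all fun m => b.any (Nat.beq (pimg p m))

/-- The families packed in a tree: six masks, then the parent and the letter of a tree edge. -/
noncomputable def famAt (N : Tab) (j : ℕ) : List ℕ :=
  [0, 1, 2, 3, 4, 5].map fun i => Nat.land (Nat.shiftRight (N.get j) (Nat.mul 24 i)) 16777215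

/-- The letter of the edge leading to a family. -/
noncomputable def edgeLetter (N : Tab) (j : ℕ) : ℕ := Nat.land (Nat.shiftRight (N.get j) 144) 15

/-- The parent of a family. -/
noncomputable def edgeParent (N : Tab) (j : ℕ) : ℕ := Nat.shiftRight (N.get j) 148

/-- Every family in a range is the image of its parent. -/
noncomputable def edgesOK (ps : List ℕ) (N : Tab) : ℕ → ℕ → Bool
  | 0, _ => true
  | m + 1, i => force i fun i => Nat.ble (edgeParent N (i + 1)) i && Nat.blt (edgeLetter N (i + 1)) 8 &&
      famOk (famAt N (i + 1)) &&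
      movesTo (ps.getD (edgeLetter N (i + 1)) 0) (famAt N (edgeParent N (i + 1))) (famAt N (i + 1)) &&
      edgesOK ps N m (i + 1)

theorem edgesOK_get {ps : List ℕ} {N : Tab} : ∀ {m i : ℕ}, edgesOK ps N m i = true →
    ∀ j, i ≤ j → j < i + m → edgeParent N (j + 1) ≤ j ∧ edgeLetter N (j + 1) < 8 ∧
      famOk (famAt N (j + 1)) = true ∧
      movesTo (ps.getD (edgeLetter N (j + 1)) 0) (famAt N (edgeParent N (j + 1))) (famAt N (j + 1)) = true
  | 0, i, _, j, h1, h2 => by omega
  | m + 1, i, hc, j, h1, h2 => by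
    rw [edgesOK, force_eq, Bool.and_eq_true] at hc
    rcases Nat.eq_or_lt_of_le h1 with h | h
    · subst h
      have h3 := hc.1
      simp only [Bool.and_eq_true, Nat.ble_eq, Nat.blt_eq, and_assoc] at h3
      exact h3
    · exact edgesOK_get hc.2 j h (by omega)

theorem edgesOK_append {ps : List ℕ} {N : Tab} : ∀ {a b i : ℕ},
    edgesOK ps N a i = true → edgesOK ps N b (i + a) = true → edgesOK ps N (a + b) i = true
  | 0, b, i, _, h => by simpa using h
  | a + 1, b, i, h, h' => by
    rw [edgesOK, force_eq, Bool.and_eq_true] at h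
    rw [show a + 1 + b = (a + b) + 1 by omega, edgesOK, force_eq, Bool.and_eq_true]
    exact ⟨h.1, edgesOK_append h.2 (by rwa [show i + 1 + a = i + (a + 1) by omega])⟩

/-- The first family is fixed. -/
noncomputable def rootOK (ps : List ℕ) (U : List (List ℕ)) (N : Tab) : Bool :=
  famOk (famAt N 0) && U.all fun u => match u with
      | [i] => Nat.blt i 8 && movesTo (ps.getD i 0) (famAt N 0) (famAt N 0)
      | _ => false

/-- The keys of the families in a given order increase. -/
noncomputable def orderOK (N O : Tab) (n : ℕ) : ℕ → ℕ → Bool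
  | 0, _ => true
  | m + 1, i => force i fun i => Nat.blt (O.getP i) n &&
      (Nat.beq (i + 1) n || Nat.blt (fkey (famAt N (O.getP i))) (fkey (famAt N (O.getP (i + 1))))) &&
      orderOK N O n m (i + 1)

theorem orderOK_append {N O : Tab} {n : ℕ} : ∀ {a b i : ℕ},
    orderOK N O n a i = true → orderOK N O n b (i + a) = true → orderOK N O n (a + b) i = true
  | 0, b, i, _, h => by simpa using h
  | a + 1, b, i, h, h' => by
    rw [orderOK, force_eq, Bool.and_eq_true] at h
    rw [show a + 1 + b = (a + b) + 1 by omega, orderOK, force_eq, Bool.and_eq_true]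
    exact ⟨h.1, orderOK_append h.2 (by rwa [show i + 1 + a = i + (a + 1) by omega])⟩

theorem orderOK_get {N O : Tab} {n : ℕ} : ∀ {m i : ℕ}, orderOK N O n m i = true →
    ∀ j, i ≤ j → j < i + m → O.getP j < n ∧
      (j + 1 = n ∨ fkey (famAt N (O.getP j)) < fkey (famAt N (O.getP (j + 1))))
  | 0, i, _, j, h1, h2 => by omega
  | m + 1, i, hc, j, h1, h2 => by
    rw [orderOK, force_eq, Bool.and_eq_true] at hc
    rcases Nat.eq_or_lt_of_le h1 with h | h
    · subst h
      have h3 := hc.1
      simp only [Bool.and_eq_true, Bool.or_eq_true, Nat.blt_eq, Nat.beq_eq] at h3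
      exact h3
    · exact orderOK_get hc.2 j h (by omega)

theorem smul_lset {g : Equiv.Perm GolayPt} {p : ℕ} (hg : Rep g p) {a b : List ℕ} (ha : famOk a = true)
    (hb : famOk b = true) (hlen : a.length = b.length) (h : movesTo p a b = true) :
    g • lset a = lset b := by
  refine Finset.eq_of_subset_of_card_le (fun S hS => ?_) ?_
  · obtain ⟨T, hT, rfl⟩ := Finset.mem_smul_finset.1 hS
    obtain ⟨m, hm, rfl⟩ := List.mem_map.1 (List.mem_toFinset.1 hT)
    obtain ⟨m', hm', he⟩ := List.any_eq_true.1 (List.all_eq_true.1 h m hm)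
    rw [hg.smul_mset, Nat.eq_of_beq_eq_true he]
    exact List.mem_toFinset.2 (List.mem_map.2 ⟨m', hm', rfl⟩)
  · rw [Finset.card_smul_finset, lset_card ha, lset_card hb, hlen]

/-- The model from checked data. -/
theorem m24_model {ps : List ℕ} {R U gw : List (List ℕ)} {N O : Tab} {n : ℕ}
    (h : permsOK ps R gw = true) (hn : 0 < n) (hroot : rootOK ps U N = true)
    (hedge : edgesOK ps N (n - 1) 0 = true) (hord : orderOK N O n n 0 = true)
    (hz : (bits24.any fun x => !Nat.beq (evalW ps zWord x) x) = true)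
    (hzc : ((List.range 8).any fun i => bits24.any fun x =>
      !Nat.beq (evalW ps (zWord ++ [i]) x) (evalW ps (i :: zWord) x)) = true) :
    ∃ y : ℕ → M24, (∀ i, y i * y i = 1) ∧ Subgroup.closure (y '' {i | i < 8}) = ⊤ ∧
      (∀ r ∈ R, wordVal y r = 1) ∧
      (∃ a₀ : Finset (Finset GolayPt), (∀ u ∈ U, wordVal y u • a₀ = a₀) ∧
        n ≤ (MulAction.orbit M24 a₀).ncard) ∧
      wv y zWord ≠ 1 ∧ ∃ q, wv y zWord * q ≠ q * wv y zWord := by
  classical
  simp only [permsOK, Bool.and_eq_true, List.all_eq_true, List.mem_range] at h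
  obtain ⟨⟨hp, hR⟩, hg⟩ := h
  have hrep : ∀ i < 8, Rep (permsOf ps i) (ps.getD i 0) := fun i hi => by
    rw [permsOf, if_pos hi]
    exact (rep_permOfPack (hp i hi).1).1
  have hmem : ∀ i, permsOf ps i ∈ M24 := fun i => by
    by_cases hi : i < 8
    · refine rep_mem_M24 (hrep i hi) (List.all_eq_true.2 fun b hb => ?_)
      have := (hp i hi).2 b hb
      simpa only [Bool.and_eq_true] using this
    · rw [permsOf, if_neg hi]; exact one_mem _
  have hsq : ∀ i, permsOf ps i * permsOf ps i = 1 := fun i => by
    by_cases hi : i < 8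
    · rw [permsOf, if_pos hi]; exact (rep_permOfPack (hp i hi).1).2
    · rw [permsOf, if_neg hi, one_mul]
  let y : ℕ → M24 := fun i => ⟨permsOf ps i, hmem i⟩
  have hy : ∀ i, y i * y i = 1 := fun i => Subtype.ext (hsq i)
  have hcoe : ∀ w : List ℕ, ((wv y w : M24) : Equiv.Perm GolayPt) = wordProd (permsOf ps) w := fun w => by
    rw [← Subgroup.coe_subtype, map_wv]; rfl
  have heval : ∀ w : List ℕ, (∀ i ∈ w, i < 8) → ∀ x : GolayPt,
      (gidx (wordProd (permsOf ps) w x)).val = evalW ps w (gidx x).val := fun w hw =>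
    evalW_eq w fun a ha => hrep a (hw a ha)
  have hrepw : ∀ (w : List ℕ), (∀ i ∈ w, i < 8) → ∀ {q : ℕ}, (∀ x ∈ bits24, Nat.beq (evalW ps w x) (pget q x) = true) →
      Rep (wordProd (permsOf ps) w) q := fun w hw q hq x => by
    rw [heval w hw x]
    exact Nat.eq_of_beq_eq_true (hq _ (mem_bits24.2 (gidx x).isLt))
  have hwone : ∀ w : List ℕ, (∀ i ∈ w, i < 8) → (∀ x ∈ bits24, Nat.beq (evalW ps w x) x = true) →
      wv y w = 1 := fun w hw hx => Subtype.ext (by
    rw [hcoe]
    exact Equiv.ext fun x => gidx_injective (Fin.ext (by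
      rw [heval w hw x]
      exact Nat.eq_of_beq_eq_true (hx _ (mem_bits24.2 (gidx x).isLt)))))
  simp only [rootOK, Bool.and_eq_true, List.all_eq_true] at hroot
  obtain ⟨hroot0, hU⟩ := hroot
  have hedge' := fun j (hj : j + 1 < n) => edgesOK_get hedge j (Nat.zero_le _) (by omega)
  have hnode : ∀ j < n, famOk (famAt N j) = true := fun j hj => by
    rcases j with _ | j
    · exact hroot0
    · exact (hedge' j hj).2.2.1
  set a₀ := lset (famAt N 0)
  have hstep : ∀ i < 8, ∀ a b, a < n → b < n → movesTo (ps.getD i 0) (famAt N a) (famAt N b) = true →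
      y i • lset (famAt N a) = lset (famAt N b) := fun i hi a b ha hb hm => by
    show permsOf ps i • lset (famAt N a) = lset (famAt N b)
    exact smul_lset (hrep i hi) (hnode a ha) (hnode b hb) rfl hm
  refine ⟨y, hy, ?_, fun r hr => ?_, ⟨a₀, fun u hu => ?_, ?_⟩, ?_, ?_⟩
  · have hm : ∀ j < 3, ∃ g ∈ (Subgroup.closure (y '' {i | i < 8})).map M24.subtype,
        Rep g (m24Perms.getD (j + 1) 0) := fun j hj => by
      have hw : ∀ i ∈ gw.getD j [], i < 8 := fun i hi => by simpa [Nat.blt_eq] using (hg j hj).1 i hi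
      refine ⟨_, ⟨wv y (gw.getD j []), ?_, hcoe _⟩, hrepw _ hw (hg j hj).2⟩
      exact Subgroup.list_prod_mem _ fun x hx => by
        obtain ⟨i, hi, rfl⟩ := List.mem_map.1 hx
        exact Subgroup.subset_closure ⟨i, hw i hi, rfl⟩
    have hle : M24 ≤ (Subgroup.closure (y '' {i | i < 8})).map M24.subtype := by
      conv_lhs => rw [← M24_eq_closure]
      rw [Subgroup.closure_le]
      obtain ⟨g0, h0, r0⟩ := hm 0 (by decide)
      obtain ⟨g1, h1, r1⟩ := hm 1 (by decide)
      obtain ⟨g2, h2, r2⟩ := hm 2 (by decide)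
      rintro g (rfl | rfl | rfl)
      exacts [rep_mShift.ext r0 ▸ h0, rep_projInv.ext r1 ▸ h1, rep_cubeTwist.ext r2 ▸ h2]
    refine top_le_iff.1 fun a _ => ?_
    obtain ⟨b, hb, e⟩ := hle a.2
    rwa [← Subtype.ext (e : (b : Equiv.Perm GolayPt) = a)]
  · have hw : ∀ i ∈ r, i < 8 := fun i hi => by simpa [Nat.blt_eq] using (hR r hr).1 i hi
    rw [wordVal_eq_inv hy r fun i hi => lt_trans (hw i hi) (by decide), hwone r hw (hR r hr).2, inv_one]
  · have h1 := hU u hu
    rcases u with _ | ⟨i, _ | _⟩ <;> simp only [Bool.false_eq_true] at h1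
    rw [Bool.and_eq_true, Nat.blt_eq] at h1
    rw [show wordVal y [i] = y i by
      simp [wordVal, gen, Nat.ne_of_lt (lt_trans h1.1 (by decide : 8 < eps))]]
    exact hstep i h1.1 0 0 (by omega) (by omega) h1.2
  · have horb : ∀ j < n, lset (famAt N j) ∈ MulAction.orbit M24 a₀ := by
      intro j
      induction j using Nat.strong_induction_on with
      | _ j ih =>
        intro hj
        rcases j with _ | j
        · exact MulAction.mem_orbit_self _
        · obtain ⟨h1, h2, -, h3⟩ := hedge' j hj
          rw [← hstep _ h2 _ _ (by omega) hj h3]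
          exact MulAction.mem_orbit_of_mem_orbit _ (ih _ (by omega) (by omega))
    have hget := fun j (hj : j < n) => orderOK_get hord j (Nat.zero_le _) (by omega)
    let f : Fin n → Finset (Finset GolayPt) := fun j => lset (famAt N (O.getP j.1))
    have hmono : ∀ b, b < n → ∀ a, a < b → fkey (famAt N (O.getP a)) < fkey (famAt N (O.getP b)) := by
      intro b
      induction b with
      | zero => intro _ a ha; omega
      | succ b ih =>
        intro hb a ha
        have hs := ((hget b (by omega)).2).resolve_left (by omega)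
        rcases Nat.lt_succ_iff_lt_or_eq.1 ha with ha | rfl
        · exact (ih (by omega) a ha).trans hs
        · exact hs
    have hkey : ∀ a b : Fin n, f a = f b → fkey (famAt N (O.getP a.1)) = fkey (famAt N (O.getP b.1)) :=
      fun a b e => by
        rw [fkey_eq_sum, fkey_eq_sum]
        exact ((perm_of_lset_eq (hnode _ (hget _ a.2).1) (hnode _ (hget _ b.2).1) e).map _).sum_eq
    have hinj : Function.Injective f := fun a b e => by
      have h := hkey a b e
      rcases Nat.lt_trichotomy a.1 b.1 with h' | h' | h'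
      · exact absurd h (Nat.ne_of_lt (hmono _ b.2 _ h'))
      · exact Fin.ext h'
      · exact absurd h.symm (Nat.ne_of_lt (hmono _ a.2 _ h'))
    have hsub : Set.range f ⊆ MulAction.orbit M24 a₀ := by
      rintro _ ⟨j, rfl⟩
      exact horb _ (hget _ j.2).1
    have hc := Set.ncard_le_ncard hsub (Set.toFinite _)
    rwa [← Set.image_univ, Set.ncard_image_of_injective _ hinj, Set.ncard_univ, Nat.card_fin] at hc
  · intro h1
    obtain ⟨x, hx, hne⟩ := List.any_eq_true.1 hz
    have := heval zWord (by decide) (gpt ⟨x, mem_bits24.1 hx⟩)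
    rw [← hcoe, h1, gidx_gpt] at this
    simp [gidx_gpt] at this hne
    exact Nat.ne_of_beq_eq_false hne this.symm
  · obtain ⟨i, hi, hx'⟩ := List.any_eq_true.1 hzc
    obtain ⟨x, hx, hne⟩ := List.any_eq_true.1 hx'
    refine ⟨y i, fun h1 => ?_⟩
    rw [List.mem_range] at hi
    have hl : ∀ l ∈ zWord, l < 8 := by decide
    have e1 : wv y (zWord ++ [i]) = wv y (i :: zWord) := by
      simpa [wv] using h1
    have a := heval (zWord ++ [i]) (fun l hl' => by
      rcases List.mem_append.1 hl' with h | h
      exacts [hl l h, (List.mem_singleton.1 h) ▸ hi]) (gpt ⟨x, mem_bits24.1 hx⟩)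
    have b := heval (i :: zWord) (fun l hl' => by
      rcases List.mem_cons.1 hl' with rfl | h
      exacts [hi, hl l h]) (gpt ⟨x, mem_bits24.1 hx⟩)
    rw [← hcoe, e1, hcoe, b, gidx_gpt] at a
    simp at hne
    exact Nat.ne_of_beq_eq_false hne a.symm

end Cfsg.Lib.HeldType.Amalgam
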