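import Cfsg.Agent.Lib.HeldType.Amalgam.He
import Cfsg.Agent.Lib.HeldType.Amalgam.M24Model
import Cfsg.Agent.Lib.HeldType.Amalgam.M240.Valid
import Cfsg.Agent.Lib.HeldType.Amalgam.M240.ModelValid
import Cfsg.Agent.Lib.HeldType.Amalgam.M241.Valid
import Cfsg.Agent.Lib.HeldType.Amalgam.M242.Valid
import Cfsg.Agent.Lib.HeldType.Amalgam.M243.Valid
import Cfsg.Agent.Lib.HeldType.Amalgam.M243.ModelValid

/-!
# The amalgam of the Mathieu group on 24 points
-/

set_option autoImplicit false
set_option maxRecDepth 100000

namespace Cfsg.Lib.HeldType.Amalgam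

open Cfsg.Lib.CosetEnum Cfsg.Lib.Concrete
open scoped Pointwise

variable {H : Type*} [Group H]

theorem M24_option [Finite H] {g : ℕ → H} {c : StepCert} {R0 gw : List (List ℕ)} {ps : List ℕ}
    {N O : Tab} (hv : c.Valid R0) (hS : c.S = List.range 8) (hU : c.U = subM24)
    (hR0 : (R0.all fun r => r.all fun i => Nat.blt i 8) = true)
    (hsq : ((List.range 8).all fun i => R0.contains [i, i]) = true)
    (hC0 : (relC.all fun r => R0.contains r) = true)
    (hn : 0 < c.n) (hp : permsOK ps R0 gw = true) (hroot : rootOK ps subM24 N = true)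
    (hedge : edgesOK ps N (c.n - 1) 0 = true) (hord : orderOK N O c.n c.n 0 = true)
    (hz0 : (bits24.any fun x => !Nat.beq (evalW ps zWord x) x) = true)
    (hzc : ((List.range 8).any fun i => bits24.any fun x =>
      !Nat.beq (evalW ps (zWord ++ [i]) x) (evalW ps (i :: zWord) x)) = true)
    (hrel : ∀ r ∈ R0, wv g r = 1) (hgen : Subgroup.closure (g '' Set.Iio 8) = ⊤)
    (hbig : Subgroup.closure {x | ∃ w ∈ subM24, wv g w = x} ≠ ⊤)
    (hC : ∀ N : Subgroup H, N.Normal → ∀ k ∈ N, k * wv g zWord = wv g zWord * k → k ≠ 1 → wv g zWord ∈ N) :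
    Nonempty (H ≃* Cfsg.M24) := by
  obtain ⟨y, hy, hgeny, hrely, ⟨a₀, hfix, horb⟩, hz, hzq⟩ := m24_model hp hn hroot hedge hord hz0 hzc
  have : IsSimpleGroup Cfsg.M24 := isSimple_M24
  refine iso_of_option (g := g) hv hS hR0 (by rw [hU]; decide) hrel hsq hgen (by rw [hU]; exact hbig) hC
    hy hgeny hrely a₀ (by rw [hU]; exact hfix) horb (zWord_sq (cut_sq hrel hsq) fun r hr => hrel r ?_)
    hz hzq
  exact List.mem_of_elem_eq_true (List.all_eq_true.1 hC0 r hr)

/-- A group with the relators of the amalgam is the Mathieu group. -/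
theorem M24_iso [Finite H] (g : ℕ → H) (i : ℕ)
    (hi : i < 4) (hrel : ∀ r ∈ relsM24 ++ [sharedM24.getD i []], wv g r = 1)
    (hgen : Subgroup.closure (g '' Set.Iio 8) = ⊤)
    (hbig : Subgroup.closure {x | ∃ w ∈ subM24, wv g w = x} ≠ ⊤)
    (hC : ∀ N : Subgroup H, N.Normal → ∀ k ∈ N, k * wv g zWord = wv g zWord * k → k ≠ 1 → wv g zWord ∈ N) :
    Nonempty (H ≃* Cfsg.M24) := by
  match i, hi with
  | 0, _ => exact M24_option M240.cert_valid rfl rfl (by decide +kernel) (by decide +kernel)
              (by decide +kernel) (by decide +kernel : 0 < M240.cert.n) M240.perms_ok M240.root_ok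
              M240.edges_ok M240.order_ok
              (by decide +kernel) (by decide +kernel) hrel hgen hbig hC
  | 1, _ => exact (false_of_collapse M241.cert_valid rfl rfl (by decide +kernel) (by decide +kernel)
              (by decide +kernel) hrel hgen hbig).elim
  | 2, _ => exact (false_of_collapse M242.cert_valid rfl rfl (by decide +kernel) (by decide +kernel)
              (by decide +kernel) hrel hgen hbig).elim
  | 3, _ => exact M24_option M243.cert_valid rfl rfl (by decide +kernel) (by decide +kernel)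
              (by decide +kernel) (by decide +kernel : 0 < M243.cert.n) M243.perms_ok M243.root_ok
              M243.edges_ok M243.order_ok
              (by decide +kernel) (by decide +kernel) hrel hgen hbig hC
  | n + 4, h => omega

end Cfsg.Lib.HeldType.Amalgam
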