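import Cfsg.Agent.Lib.CosetEnum.Suborbits
import Cfsg.Agent.Lib.HeldType.Amalgam.Twist.Check
import Cfsg.Agent.Lib.HeldType.Amalgam.Bridge

/-!
# The word for the central involution
-/

set_option autoImplicit false

namespace Cfsg.Lib.HeldType.Amalgam

open Cfsg.Lib.CosetEnum

/-- The relators inside the centraliser. -/
def relC : List (List ℕ) := relsHe.filter fun r => r.all fun i => Nat.blt i 6

theorem relC_sub : ((relsL5 ++ relsM24 ++ relsHe).length.ble 1000 &&
    relC.all fun r => relsL5.contains r && relsM24.contains r && relsHe.contains r) = true := by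
  decide +kernel

theorem relC_lt : (relC.all fun r => r.all fun i => Nat.blt i 8) = true := by decide +kernel

variable {H : Type*} [Group H] {g : ℕ → H}

/-- The word squares to one. -/
theorem zWord_sq (hx : ∀ i, cut g i * cut g i = 1) (hrel : ∀ r ∈ relC, wv g r = 1) :
    wv g zWord * wv g zWord = 1 := by
  have h := LoopCert.eq_one (R0 := relC) (c := Twist.zSqCert) (by decide +kernel) Twist.zSq_ok hx
    (wordVal_cut hx relC_lt hrel)
  rw [wordVal_eq_inv hx _ (by decide), inv_eq_one, show Twist.zSqCert.word = zWord ++ zWord from rfl,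
    wv_cut g _ (by decide)] at h
  simpa [wv] using h

end Cfsg.Lib.HeldType.Amalgam
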